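import Mathlib

/-!
An elementary abelian subgroup of order `2 ^ 5` and the elements dual to it modulo the first generator.
-/

set_option autoImplicit false

namespace Cfsg.Agent.ChevGroup.TitsIdx

variable {G : Type*} [Group G] (a : Fin 5 → G) (hsq : ∀ i, a i * a i = 1)
  (hcomm : ∀ i j, Commute (a i) (a j))

/-- One factor. -/
def eHom (i : Fin 5) : Multiplicative (ZMod 2) →* G :=
  MonoidHom.mk' (fun s => if Multiplicative.toAdd s = 0 then 1 else a i) fun s t => by
    obtain rfl | rfl : s = 1 ∨ s = Multiplicative.ofAdd (1 : ZMod 2) := by revert s; decide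
    all_goals obtain rfl | rfl : t = 1 ∨ t = Multiplicative.ofAdd (1 : ZMod 2) := by revert t; decide
    all_goals simp [hsq, show (1 : ZMod 2) + 1 = 0 from rfl]

/-- The whole map. -/
noncomputable def eA : (Fin 5 → Multiplicative (ZMod 2)) →* G :=
  MonoidHom.noncommPiCoprod (eHom a hsq) fun i j _ s t => by
    simp only [eHom, MonoidHom.mk'_apply]
    split_ifs <;> first | exact Commute.one_left _ | exact Commute.one_right _ | exact hcomm _ _

theorem eA_single (i : Fin 5) (s : Multiplicative (ZMod 2)) :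
    eA a hsq hcomm (Pi.mulSingle i s) = eHom a hsq i s :=
  MonoidHom.noncommPiCoprod_mulSingle (eHom a hsq) i s

theorem eA_prod (b : Fin 5 → Multiplicative (ZMod 2)) :
    eA a hsq hcomm b = (List.ofFn fun i => eHom a hsq i (b i)).prod := by
  conv_lhs => rw [← Finset.univ_prod_mulSingle b, ← List.prod_ofFn, map_list_prod, List.map_ofFn]
  congr 2
  funext i
  exact eA_single a hsq hcomm i (b i)

theorem eA_ofAdd (i : Fin 5) : eA a hsq hcomm (Pi.mulSingle i (Multiplicative.ofAdd 1)) = a i := by
  rw [eA_single]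
  simp [eHom]

include hsq hcomm in
/-- The elementary group, and the subgroup acting on it by transvections with the first generator as centre. -/
theorem exists_pair (q : Fin 4 → G)
    (hconj : ∀ i j, q i * a j * (q i)⁻¹ = (if j = Fin.succ i then a 0 else 1) * a j)
    (hfaith : ∀ b : Fin 5 → ZMod 2, (List.ofFn fun i => if b i = 0 then 1 else a i).prod = 1 → b = 0) :
    ∃ A Q : Subgroup G, a 0 ∈ A ∧ a 1 ∈ A ∧ A ≤ Q ∧ Nat.card A = 32 ∧
      (∀ x ∈ A, ∀ y ∈ A, x * y = y * x) ∧ (∀ p ∈ Q, p * a 0 = a 0 * p) ∧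
      (∀ p ∈ Q, ∀ x ∈ A, p * x * p⁻¹ = x ∨ p * x * p⁻¹ = a 0 * x) ∧
      (∀ x ∈ A, x ≠ 1 → x ≠ a 0 → ∃ p ∈ Q, p * x * p⁻¹ = a 0 * x) ∧
      Q ≤ Subgroup.closure (Set.range a ∪ Set.range q) := by
  set F := eA a hsq hcomm with hF
  have hmem : ∀ i, a i ∈ F.range := fun i => ⟨_, eA_ofAdd a hsq hcomm i⟩
  have hinj : Function.Injective F := by
    rw [injective_iff_map_eq_one]
    intro b hb
    rw [hF, eA_prod] at hb
    have h := hfaith (fun i => Multiplicative.toAdd (b i)) (by simpa [eHom] using hb)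
    funext i
    exact Multiplicative.toAdd.injective (congrFun h i)
  have hab : ∀ x ∈ F.range, ∀ y ∈ F.range, x * y = y * x := by
    rintro _ ⟨c, rfl⟩ _ ⟨d, rfl⟩
    rw [← map_mul, ← map_mul, mul_comm]
  -- conjugation by a dual element
  have hq : ∀ i b, q i * F b * (q i)⁻¹ = F b * eHom a hsq 0 (b (Fin.succ i)) := by
    intro i b
    let φ : (Fin 5 → Multiplicative (ZMod 2)) →* (Fin 5 → Multiplicative (ZMod 2)) :=
      MonoidHom.id _ * ((MonoidHom.mulSingle (fun _ : Fin 5 => Multiplicative (ZMod 2)) 0).comp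
        (Pi.evalMonoidHom (fun _ : Fin 5 => Multiplicative (ZMod 2)) i.succ))
    have h : (MulAut.conj (q i)).toMonoidHom.comp F = F.comp φ := by
      refine MonoidHom.ext fun b => Pi.mulSingle_induction
        (fun b => (MulAut.conj (q i)).toMonoidHom.comp F b = F.comp φ b) b (by simp)
        (fun u v hu hv => by simp only [map_mul, hu, hv]) (fun j s => ?_)
      have hφ : φ (Pi.mulSingle j s) =
          Pi.mulSingle j s * Pi.mulSingle 0 ((Pi.mulSingle j s : Fin 5 → Multiplicative (ZMod 2)) i.succ) := rfl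
      simp only [MonoidHom.comp_apply, MulEquiv.coe_toMonoidHom, MulAut.conj_apply, hφ, map_mul, hF,
        eA_single]
      obtain rfl | rfl : s = 1 ∨ s = Multiplicative.ofAdd (1 : ZMod 2) := by
        have h2 : ∀ t : Multiplicative (ZMod 2), t = 1 ∨ t = Multiplicative.ofAdd (1 : ZMod 2) := by decide
        exact h2 s
      · simp
      · simp only [eHom, MonoidHom.mk'_apply, toAdd_ofAdd, one_ne_zero, if_false]
        rw [hconj]
        by_cases e : j = i.succ
        · subst e
          simp [(hcomm 0 i.succ).eq]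
        · simp [if_neg e, Pi.mulSingle_eq_of_ne (Ne.symm e)]
    have h' := DFunLike.congr_fun h b
    have hφ : φ b = b * Pi.mulSingle 0 (b i.succ) := rfl
    simp only [MonoidHom.comp_apply, MulEquiv.coe_toMonoidHom, MulAut.conj_apply, hφ, map_mul] at h'
    rw [h', hF, eA_single]
  have hx : a 0 * a 0 = 1 := hsq 0
  -- the elements with both properties form a subgroup
  let Z : Subgroup G :=
    { carrier := {p | p * a 0 = a 0 * p ∧
        ∀ x ∈ F.range, p * x * p⁻¹ = x ∨ p * x * p⁻¹ = a 0 * x}
      one_mem' := ⟨by simp, fun x _ => Or.inl (by simp)⟩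
      mul_mem' := by
        rintro p r ⟨hp0, hp1⟩ ⟨hr0, hr1⟩
        refine ⟨by rw [mul_assoc, hr0, ← mul_assoc, hp0, mul_assoc], fun x hx' => ?_⟩
        rw [show p * r * x * (p * r)⁻¹ = p * (r * x * r⁻¹) * p⁻¹ by group]
        rcases hr1 x hx' with h | h <;> rw [h]
        · exact hp1 x hx'
        · rw [← mul_assoc, hp0, show a 0 * p * x * p⁻¹ = a 0 * (p * x * p⁻¹) by group]
          rcases hp1 x hx' with h' | h' <;> rw [h']
          · exact Or.inr rfl
          · exact Or.inl (by rw [← mul_assoc, hx, one_mul])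
      inv_mem' := by
        rintro p ⟨hp0, hp1⟩
        refine ⟨?_, fun x hx' => ?_⟩
        · rw [inv_mul_eq_iff_eq_mul, ← mul_assoc, hp0, mul_inv_cancel_right]
        · rw [inv_inv]
          rcases hp1 x hx' with h | h
          · left
            conv_lhs => rw [← h]
            group
          · right
            have h' : p * (a 0 * x) * p⁻¹ = x := by
              rw [← mul_assoc, hp0, show a 0 * p * x * p⁻¹ = a 0 * (p * x * p⁻¹) by group, h,
                ← mul_assoc, hx, one_mul]
            conv_lhs => rw [← h']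
            group }
  have hQ : F.range ⊔ Subgroup.closure (Set.range q) ≤ Z := by
    refine sup_le (fun p hp => ⟨hab p hp _ (hmem 0), fun x hx' => Or.inl ?_⟩)
      ((Subgroup.closure_le _).2 ?_)
    · rw [hab p hp x hx', mul_inv_cancel_right]
    · rintro _ ⟨i, rfl⟩
      refine ⟨?_, ?_⟩
      · have h := hconj i 0
        rw [if_neg (Fin.succ_ne_zero i).symm, one_mul, mul_inv_eq_iff_eq_mul] at h
        exact h
      · rintro _ ⟨b, rfl⟩
        rw [hq]
        obtain hs | hs : b i.succ = 1 ∨ b i.succ = Multiplicative.ofAdd 1 := by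
          generalize b i.succ = s; revert s; decide
        · exact Or.inl (by simp [hs])
        · exact Or.inr (by rw [hs, hab _ (hmem 0) _ ⟨b, rfl⟩]; simp [eHom])
  refine ⟨F.range, _, hmem 0, hmem 1, le_sup_left, ?_, hab, fun p hp => (hQ hp).1,
    fun p hp => (hQ hp).2, ?_, ?_⟩
  · rw [← Nat.card_congr (MonoidHom.ofInjective hinj).toEquiv]
    simp [Nat.card_eq_fintype_card]
  · rintro _ ⟨b, rfl⟩ h1 hne
    obtain ⟨i, hi⟩ : ∃ i : Fin 4, b i.succ = Multiplicative.ofAdd 1 := by
      by_contra h
      push Not at h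
      have hb : b = Pi.mulSingle 0 (b 0) := by
        funext j
        refine Fin.cases ?_ (fun i => ?_) j
        · simp
        · rw [Pi.mulSingle_eq_of_ne (Fin.succ_ne_zero i)]
          have h2 : ∀ s : Multiplicative (ZMod 2), s ≠ Multiplicative.ofAdd 1 → s = 1 := by decide
          exact h2 _ (h i)
      rw [hb, hF, eA_single] at h1 hne
      simp only [eHom, MonoidHom.mk'_apply] at h1 hne
      by_cases e : Multiplicative.toAdd (b 0) = 0
      · exact h1 (if_pos e)
      · exact hne (if_neg e)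
    refine ⟨q i, Subgroup.mem_sup_right (Subgroup.subset_closure ⟨i, rfl⟩), ?_⟩
    rw [hq, hi, hab _ (hmem 0) _ ⟨b, rfl⟩]
    simp [eHom]
  · refine sup_le ?_ (Subgroup.closure_mono Set.subset_union_right)
    rintro _ ⟨b, rfl⟩
    rw [hF, eA_prod]
    refine list_prod_mem fun y hy => ?_
    obtain ⟨i, rfl⟩ := List.mem_ofFn.1 hy
    simp only [eHom, MonoidHom.mk'_apply]
    split_ifs
    · exact one_mem _
    · exact Subgroup.subset_closure (Or.inl ⟨i, rfl⟩)

end Cfsg.Agent.ChevGroup.TitsIdx
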