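import Cfsg.Agent.KnownSimple.Multiplier.Sylow

/-!
Central extensions over Sylow subgroups of orders 25 and 27: elements inverting one lift and fixing
another force lifts to commute.
-/

set_option autoImplicit false

namespace Cfsg.Agent.ChevGroup.OddPrimes

open scoped commutatorElement

variable {G Γ : Type*} [Group G] [Group Γ]

theorem commutator_pow_left {a b : Γ} (h : Commute a ⁅a, b⁆) (n : ℕ) : ⁅a ^ n, b⁆ = ⁅a, b⁆ ^ n := by
  induction n with
  | zero => simp [commutatorElement_def]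
  | succ n ih =>
    calc ⁅a ^ (n + 1), b⁆ = a ^ n * ⁅a, b⁆ * (a ^ n)⁻¹ * ⁅a ^ n, b⁆ := by
          simp only [commutatorElement_def, pow_succ]; group
      _ = ⁅a, b⁆ * ⁅a, b⁆ ^ n := by rw [ih, (h.pow_left n).eq, mul_inv_cancel_right]
      _ = _ := by rw [pow_succ']

/-- An element inverting `a` and fixing `b` makes lifts of commuting `a`, `b` commute. -/
theorem commute_of_inverted (σ : Γ →* G) (hc : σ.ker ≤ Subgroup.center Γ)
    (hσ : Function.Surjective σ) {a b : Γ} {g : G} (hab : σ a * σ b = σ b * σ a)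
    (hga : g * σ a = (σ a)⁻¹ * g) (hgb : g * σ b = σ b * g) {m : ℕ} (hm : Odd m)
    (ha : σ a ^ m = 1) : Commute a b := by
  obtain ⟨t, rfl⟩ := hσ g
  set z := ⁅a, b⁆ with hz
  have hzk : z ∈ σ.ker := by
    rw [MonoidHom.mem_ker, hz, map_commutatorElement, commutatorElement_eq_one_iff_mul_comm]
    exact hab
  have hzc := Subgroup.mem_center_iff.1 (hc hzk)
  have hk1 : a * (t * a * t⁻¹) ∈ Subgroup.center Γ := hc (by
    rw [MonoidHom.mem_ker, map_mul, map_mul, map_mul, map_inv, hga, mul_inv_cancel_right, mul_inv_cancel])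
  have hk2 : b⁻¹ * (t * b * t⁻¹) ∈ Subgroup.center Γ := hc (by
    rw [MonoidHom.mem_ker, map_mul, map_inv, map_mul, map_mul, map_inv, hgb, mul_inv_cancel_right,
      inv_mul_cancel])
  have h1 : t * z * t⁻¹ = z := by rw [hzc t, mul_inv_cancel_right]
  have h2 : t * z * t⁻¹ = ⁅a⁻¹, b⁆ := by
    have e : t * z * t⁻¹ = ⁅a⁻¹ * (a * (t * a * t⁻¹)), b * (b⁻¹ * (t * b * t⁻¹))⁆ := by
      rw [hz, commutatorElement_def, commutatorElement_def]; group
    rw [e, Cfsg.Agent.Schur.commutatorElement_mul_central hk1 hk2]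
  have h3 : ⁅a⁻¹, b⁆ = z⁻¹ := by
    calc ⁅a⁻¹, b⁆ = a⁻¹ * z⁻¹ * a := by rw [hz]; simp only [commutatorElement_def]; group
      _ = z⁻¹ := by
        rw [Subgroup.mem_center_iff.1 (inv_mem (hc hzk)) a⁻¹, inv_mul_cancel_right]
  have hsq : z * z = 1 := by
    have e := h1.symm.trans (h2.trans h3)
    nth_rw 2 [e]
    rw [mul_inv_cancel]
  have hpow : z ^ m = 1 := by
    rw [hz, ← commutator_pow_left (b := b) (by rw [← hz]; exact hzc a) m,
      commutatorElement_eq_one_iff_mul_comm]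
    have hk : a ^ m ∈ Subgroup.center Γ := hc (by rw [MonoidHom.mem_ker, map_pow, ha])
    exact (Subgroup.mem_center_iff.1 hk b).symm
  refine commutatorElement_eq_one_iff_mul_comm.1 (?_ : z = 1)
  obtain ⟨k, rfl⟩ := hm
  rwa [pow_succ, pow_mul, pow_two, hsq, one_pow, one_mul] at hpow

theorem commutator_mem_of_gens {s : Set Γ} (Z : Subgroup Γ)
    (hZ : ∀ z ∈ Z, ∀ a ∈ s, a * z = z * a) (hs : ∀ a ∈ s, ∀ b ∈ s, ⁅a, b⁆ ∈ Z) :
    ⁅Subgroup.closure s, Subgroup.closure s⁆ ≤ Z := by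
  have hcom : ∀ z ∈ Z, ∀ u ∈ Subgroup.closure s, u * z = z * u := by
    intro z hz u hu
    induction hu using Subgroup.closure_induction with
    | mem a ha => exact hZ z hz a ha
    | one => simp
    | mul a b _ _ ha hb => rw [mul_assoc, hb, ← mul_assoc, ha, mul_assoc]
    | inv a _ ha => rw [inv_mul_eq_iff_eq_mul, ← mul_assoc, ha, mul_inv_cancel_right]
  rw [Subgroup.commutator_le]
  intro u hu v hv
  induction hu using Subgroup.closure_induction with
  | mem a ha =>
    induction hv using Subgroup.closure_induction with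
    | mem b hb => exact hs a ha b hb
    | one => simp [commutatorElement_def]
    | mul p q hp hq ihp ihq =>
      rw [show ⁅a, p * q⁆ = ⁅a, p⁆ * (p * ⁅a, q⁆ * p⁻¹) by simp only [commutatorElement_def]; group,
        hcom _ ihq p hp, mul_inv_cancel_right]
      exact mul_mem ihp ihq
    | inv p hp ihp =>
      rw [show ⁅a, p⁻¹⁆ = p⁻¹ * ⁅a, p⁆⁻¹ * p by simp only [commutatorElement_def]; group,
        hcom _ (inv_mem ihp) p⁻¹ (inv_mem hp), inv_mul_cancel_right]
      exact inv_mem ihp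
  | one => simp [commutatorElement_def]
  | mul p q hp hq ihp ihq =>
    rw [show ⁅p * q, v⁆ = p * ⁅q, v⁆ * p⁻¹ * ⁅p, v⁆ by simp only [commutatorElement_def]; group,
      hcom _ ihq p hp, mul_inv_cancel_right]
    exact mul_mem ihq ihp
  | inv p hp ihp =>
    rw [show ⁅p⁻¹, v⁆ = p⁻¹ * ⁅p, v⁆⁻¹ * p by simp only [commutatorElement_def]; group,
      hcom _ (inv_mem ihp) p⁻¹ (inv_mem hp), inv_mul_cancel_right]
    exact inv_mem ihp

theorem comap_le_closure (σ : Γ →* G) (s : Set Γ) :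
    (Subgroup.closure (σ '' s)).comap σ ≤ Subgroup.closure (s ∪ σ.ker) := by
  rw [← MonoidHom.map_closure, Subgroup.comap_map_eq, Subgroup.closure_union, Subgroup.closure_eq]

theorem not_dvd_index [Finite G] (S : Subgroup G) {p k : ℕ} (hS : p ^ k ∣ Nat.card S)
    (hG : ¬ p ^ (k + 1) ∣ Nat.card G) : ¬ p ∣ S.index := fun h =>
  hG (by rw [pow_succ, ← Subgroup.card_mul_index S]; exact mul_dvd_mul hS h)

theorem sq_dvd_card [Finite G] (S : Subgroup G) {p : ℕ} (hp : p.Prime) {a b : G} (ha : a ∈ S) (hb : b ∈ S)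
    (hab : Commute a b) (hoa : orderOf a = p) (hob : orderOf b = p) (hne : b ∉ Subgroup.zpowers a) :
    p ^ 2 ∣ Nat.card S := by
  set A := Subgroup.zpowers a
  set B := Subgroup.zpowers b
  have hd : Disjoint A B := by
    rw [disjoint_iff]
    by_contra h
    obtain ⟨⟨g, hg⟩, hg1⟩ := (Subgroup.ne_bot_iff_exists_ne_one).1 h
    obtain ⟨hgA, hgB⟩ := Subgroup.mem_inf.1 hg
    have hdvd : Nat.card (A ⊓ B : Subgroup G) ∣ p := by
      rw [← hob, ← Nat.card_zpowers]
      exact Subgroup.card_dvd_of_le inf_le_right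
    rcases (Nat.dvd_prime hp).1 hdvd with h1 | h1
    · exact h (Subgroup.card_eq_one.1 h1)
    · have e : A ⊓ B = B := Subgroup.eq_of_le_of_card_ge inf_le_right (by rw [h1, Nat.card_zpowers, hob])
      exact hne ((inf_eq_right.1 e) (Subgroup.mem_zpowers b))
  let f : A × B →* G := A.subtype.noncommCoprod B.subtype (by
    rintro ⟨_, i, rfl⟩ ⟨_, j, rfl⟩
    exact hab.zpow_zpow i j)
  have hf : Function.Injective f := by
    rw [injective_iff_map_eq_one]
    rintro ⟨⟨x, hx⟩, ⟨y, hy⟩⟩ e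
    change x * y = 1 at e
    have hxy : x ∈ A ⊓ B := ⟨hx, by rw [eq_inv_of_mul_eq_one_left e]; exact B.inv_mem hy⟩
    rw [disjoint_iff.1 hd, Subgroup.mem_bot] at hxy
    subst hxy
    rw [one_mul] at e
    subst e
    rfl
  have hle : f.range ≤ S := by
    rintro _ ⟨⟨⟨x, hx⟩, ⟨y, hy⟩⟩, rfl⟩
    exact mul_mem (Subgroup.zpowers_le.2 ha hx) (Subgroup.zpowers_le.2 hb hy)
  refine dvd_trans (dvd_of_eq ?_) (Subgroup.card_dvd_of_le hle)
  rw [← Nat.card_congr (MonoidHom.ofInjective hf).toEquiv, Nat.card_prod, Nat.card_zpowers,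
    Nat.card_zpowers, hoa, hob, pow_two]

theorem five [Finite G] [Finite Γ] (σ : Γ →* G) (hσ : Function.Surjective σ)
    (hc : σ.ker ≤ Subgroup.center Γ) {a b g : G} (ha : a ^ 5 = 1) (hb : b ^ 5 = 1) (ha1 : a ≠ 1)
    (hb1 : b ≠ 1) (hab : a * b = b * a) (hga : g * a = a⁻¹ * g) (hgb : g * b = b * g)
    (hG : ¬ 5 ^ 3 ∣ Nat.card G) :
    ∃ S : Subgroup G, ¬ 5 ∣ S.index ∧ σ.ker ⊓ ⁅S.comap σ, S.comap σ⁆ = ⊥ := by
  have : Fact (Nat.Prime 5) := ⟨by norm_num⟩
  refine ⟨Subgroup.closure {a, b}, not_dvd_index _ (k := 2) ?_ hG, ?_⟩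
  · refine sq_dvd_card _ (by norm_num) (Subgroup.subset_closure (Or.inl rfl))
      (Subgroup.subset_closure (Or.inr rfl)) hab (orderOf_eq_prime ha ha1) (orderOf_eq_prime hb hb1) ?_
    rintro ⟨i, hi⟩
    have e1 : g * b * g⁻¹ = b := by rw [hgb, mul_inv_cancel_right]
    have e2 : g * b * g⁻¹ = b⁻¹ := by
      rw [← hi]
      show g * a ^ i * g⁻¹ = (a ^ i)⁻¹
      rw [← conj_zpow, hga, mul_inv_cancel_right, inv_zpow]
    have e3 : b ^ 2 = 1 := by
      rw [pow_two]; nth_rw 1 [e1.symm.trans e2]; rw [inv_mul_cancel]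
    exact hb1 (by rw [show b = b ^ 5 * ((b ^ 2) ^ 2)⁻¹ by group, hb, e3, one_pow, inv_one, one_mul])
  · obtain ⟨a', rfl⟩ := hσ a
    obtain ⟨b', rfl⟩ := hσ b
    have hcomm : Commute a' b' := commute_of_inverted σ hc hσ hab hga hgb (m := 5) ⟨2, rfl⟩ ha
    rw [eq_bot_iff, ← Set.image_pair]
    refine le_trans inf_le_right (le_trans (Subgroup.commutator_mono (comap_le_closure σ _)
      (comap_le_closure σ _)) (commutator_mem_of_gens ⊥ (by simp) ?_))
    intro p hp q hq
    rw [Subgroup.mem_bot, commutatorElement_eq_one_iff_mul_comm]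
    have hk : ∀ k ∈ σ.ker, ∀ x, x * k = k * x := fun k hk => Subgroup.mem_center_iff.1 (hc hk)
    rcases hp with hp | hp
    · rcases hq with hq | hq
      · rcases hp with rfl | rfl <;> rcases hq with rfl | rfl
        exacts [rfl, hcomm.eq, hcomm.eq.symm, rfl]
      · exact hk q hq p
    · exact (hk p hp q).symm

theorem three [Finite G] [Finite Γ] (σ : Γ →* G) (hσ : Function.Surjective σ)
    (hc : σ.ker ≤ Subgroup.center Γ) {x y c h₁ h₂ : G} (hcd : x * y = c * (y * x)) (hx : x ^ 3 = 1)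
    (hy : y ^ 3 = 1) (hc3 : c ^ 3 = 1) (hc1 : c ≠ 1) (hcx : c * x = x * c) (hcy : c * y = y * c)
    (h₁c : h₁ * c = c⁻¹ * h₁) (h₁y : h₁ * y = y * h₁) (h₂c : h₂ * c = c⁻¹ * h₂) (h₂x : h₂ * x = x * h₂)
    (hG : ¬ 3 ^ 4 ∣ Nat.card G) :
    ∃ S : Subgroup G, ¬ 3 ∣ S.index ∧ σ.ker ⊓ ⁅S.comap σ, S.comap σ⁆ = ⊥ := by
  have : Fact (Nat.Prime 3) := ⟨by norm_num⟩
  have hcdef : c = ⁅x, y⁆ := by
    rw [show ⁅x, y⁆ = x * y * (y * x)⁻¹ by simp only [commutatorElement_def]; group, hcd,
      mul_inv_cancel_right]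
  have hx1 : x ≠ 1 := by rintro rfl; exact hc1 (by rw [hcdef]; simp [commutatorElement_def])
  set S := Subgroup.closure ({x, y} : Set G)
  have hxS : x ∈ S := Subgroup.subset_closure (Or.inl rfl)
  have hyS : y ∈ S := Subgroup.subset_closure (Or.inr rfl)
  have hcS : c ∈ S := by
    rw [hcdef, commutatorElement_def]
    exact mul_mem (mul_mem (mul_mem hxS hyS) (inv_mem hxS)) (inv_mem hyS)
  refine ⟨S, not_dvd_index _ (k := 3) ?_ hG, ?_⟩
  · set A := Subgroup.closure ({x, c} : Set G)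
    have hxA : x ∈ A := Subgroup.subset_closure (Or.inl rfl)
    have hcA : c ∈ A := Subgroup.subset_closure (Or.inr rfl)
    have hAS : A ≤ S := (Subgroup.closure_le _).2 (by rintro g (rfl | rfl) <;> assumption)
    have hA : 3 ^ 2 ∣ Nat.card A := by
      refine sq_dvd_card _ (by norm_num) hxA hcA hcx.symm (orderOf_eq_prime hx hx1)
        (orderOf_eq_prime hc3 hc1) ?_
      rintro ⟨i, hi⟩
      have e1 : h₂ * c * h₂⁻¹ = c := by
        rw [← hi]
        show h₂ * x ^ i * h₂⁻¹ = x ^ i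
        rw [← conj_zpow, h₂x, mul_inv_cancel_right]
      have e2 : h₂ * c * h₂⁻¹ = c⁻¹ := by rw [h₂c, mul_inv_cancel_right]
      have e3 : c ^ 2 = 1 := by rw [pow_two]; nth_rw 1 [e1.symm.trans e2]; rw [inv_mul_cancel]
      exact hc1 (by rw [show c = c ^ 3 * (c ^ 2)⁻¹ by group, hc3, e3, inv_one, one_mul])
    have hyA : y ∉ A := by
      intro h
      have hle : A ≤ Subgroup.centralizer {x} := (Subgroup.closure_le _).2 (by
        rintro g (rfl | rfl) <;> rw [SetLike.mem_coe, Subgroup.mem_centralizer_singleton_iff]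
        exact hcx)
      refine hc1 ?_
      rw [hcdef, commutatorElement_eq_one_iff_mul_comm]
      exact (Subgroup.mem_centralizer_singleton_iff.1 (hle h)).symm
    have hnorm : ∀ g ∈ S, ∀ u ∈ A, g * u * g⁻¹ ∈ A := by
      have hgen : ∀ g : G, g * x * g⁻¹ ∈ A → g * c * g⁻¹ ∈ A → ∀ u ∈ A, g * u * g⁻¹ ∈ A := by
        intro g h1 h2 u hu
        exact (Subgroup.closure_le (A.comap (MulAut.conj g).toMonoidHom)).2
          (by rintro v (rfl | rfl) <;> assumption) hu
      intro g hg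
      induction hg using Subgroup.closure_induction_left with
      | one => simp
      | mul_left a ha b _ hb =>
        intro u hu
        rw [show a * b * u * (a * b)⁻¹ = a * (b * u * b⁻¹) * a⁻¹ by group]
        rcases ha with rfl | rfl
        · exact mul_mem (mul_mem hxA (hb u hu)) (inv_mem hxA)
        · refine hgen a ?_ ?_ _ (hb u hu)
          · rw [show a * x * a⁻¹ = c⁻¹ * x by
              rw [show a * x = c⁻¹ * (x * a) by rw [hcd, inv_mul_cancel_left]]; group]
            exact mul_mem (inv_mem hcA) hxA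
          · rw [← hcy, mul_inv_cancel_right]; exact hcA
      | inv_mul_cancel a ha b _ hb =>
        intro u hu
        rw [show a⁻¹ * b * u * (a⁻¹ * b)⁻¹ = a⁻¹ * (b * u * b⁻¹) * a by group]
        rcases ha with rfl | rfl
        · exact mul_mem (mul_mem (inv_mem hxA) (hb u hu)) hxA
        · have h : ∀ v ∈ A, a⁻¹ * v * a⁻¹⁻¹ ∈ A := by
            refine hgen _ ?_ ?_
            · rw [inv_inv, mul_assoc, hcd, ← mul_assoc,
                show a⁻¹ * c = c * a⁻¹ by rw [inv_mul_eq_iff_eq_mul, ← mul_assoc, ← hcy, mul_inv_cancel_right],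
                mul_assoc, inv_mul_cancel_left]
              exact mul_mem hcA hxA
            · rw [inv_inv, mul_assoc, hcy, inv_mul_cancel_left]; exact hcA
          simpa using h _ (hb u hu)
    have : (A.subgroupOf S).Normal := ⟨fun u hu g => by
      simpa [Subgroup.mem_subgroupOf] using hnorm g g.2 u hu⟩
    have h3 : 3 ∣ (A.subgroupOf S).index := by
      have hy' : (QuotientGroup.mk' (A.subgroupOf S) ⟨y, hyS⟩) ≠ 1 := fun e =>
        hyA (Subgroup.mem_subgroupOf.1 ((QuotientGroup.eq_one_iff (⟨y, hyS⟩ : S)).1 e))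
      have ho := orderOf_eq_prime (p := 3) (by
        rw [← map_pow, show (⟨y, hyS⟩ : S) ^ 3 = 1 from Subtype.ext hy, map_one]) hy'
      rw [Subgroup.index_eq_card, ← ho]
      exact orderOf_dvd_natCard _
    rw [← Subgroup.card_mul_index (A.subgroupOf S), pow_succ,
      Nat.card_congr (Subgroup.subgroupOfEquivOfLe hAS).toEquiv]
    exact mul_dvd_mul hA h3
  · obtain ⟨x', rfl⟩ := hσ x
    obtain ⟨y', rfl⟩ := hσ y
    set c' := ⁅x', y'⁆ with hc'
    have hσc : σ c' = c := by rw [hc', map_commutatorElement, ← hcdef]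
    have hcom_x : Commute c' x' :=
      commute_of_inverted σ hc hσ (g := h₂) (by rw [hσc]; exact hcx) (by rw [hσc]; exact h₂c) h₂x
        (m := 3) ⟨1, rfl⟩ (by rw [hσc]; exact hc3)
    have hcom_y : Commute c' y' :=
      commute_of_inverted σ hc hσ (g := h₁) (by rw [hσc]; exact hcy) (by rw [hσc]; exact h₁c) h₁y
        (m := 3) ⟨1, rfl⟩ (by rw [hσc]; exact hc3)
    have hk : ∀ k ∈ σ.ker, ∀ g, g * k = k * g := fun k hk => Subgroup.mem_center_iff.1 (hc hk)
    have hc'3 : c' ^ 3 = 1 := by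
      rw [hc', ← commutator_pow_left (hc' ▸ hcom_x.symm), commutatorElement_eq_one_iff_mul_comm]
      exact (hk _ (by rw [MonoidHom.mem_ker, map_pow, hx]) y').symm
    rw [eq_bot_iff]
    intro z hz
    obtain ⟨hzk, hz'⟩ := Subgroup.mem_inf.1 hz
    have hle : ⁅S.comap σ, S.comap σ⁆ ≤ Subgroup.zpowers c' := by
      rw [show S = Subgroup.closure (σ '' {x', y'}) by rw [Set.image_pair]]
      refine le_trans (Subgroup.commutator_mono (comap_le_closure σ _) (comap_le_closure σ _))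
        (commutator_mem_of_gens _ ?_ ?_)
      · rintro _ ⟨i, rfl⟩ a ((rfl | rfl) | ha)
        · exact (hcom_x.zpow_left i).eq.symm
        · exact (hcom_y.zpow_left i).eq.symm
        · exact (hk a ha _).symm
      · intro p hp q hq
        have h1 : ∀ u v : Γ, u * v = v * u → ⁅u, v⁆ ∈ Subgroup.zpowers c' := fun u v e => by
          rw [commutatorElement_eq_one_iff_mul_comm.2 e]; exact one_mem _
        rcases hp with hp | hp
        · rcases hq with hq | hq
          · rcases hp with rfl | rfl <;> rcases hq with rfl | rfl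
            · exact h1 _ _ rfl
            · exact Subgroup.mem_zpowers _
            · rw [← commutatorElement_inv]; exact inv_mem (Subgroup.mem_zpowers _)
            · exact h1 _ _ rfl
          · exact h1 _ _ (hk q hq p)
        · exact h1 _ _ (hk p hp q).symm
    obtain ⟨i, rfl⟩ := hle hz'
    have e : c ^ i = 1 := by rw [← hσc, ← map_zpow]; exact hzk
    obtain ⟨k, hk'⟩ : (3 : ℤ) ∣ i := by
      have := orderOf_dvd_iff_zpow_eq_one.2 e
      rwa [orderOf_eq_prime hc3 hc1] at this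
    show c' ^ i ∈ (⊥ : Subgroup Γ)
    rw [Subgroup.mem_bot, hk', show ((3 : ℤ) = ((3 : ℕ) : ℤ)) from rfl, zpow_mul, zpow_natCast, hc'3,
      one_zpow]

end Cfsg.Agent.ChevGroup.OddPrimes
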