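import Cfsg.Agent.ChevGroup.Tits.PcChecks
import Cfsg.Agent.ChevGroup.Tits.OddPrimes
import Cfsg.Prelude.Def_KGroupFacts

/-!
The Tits group has trivial Schur multiplier: the Sylow subgroups lift to every stem extension.
-/

set_option autoImplicit false
set_option maxRecDepth 4000
set_option maxHeartbeats 300000

namespace Cfsg.Agent.ChevGroup.TitsMult

open Cfsg.Lie ChevCore Twisted Twisted.TypeF4 Twisted.Tits TitsIdx
open scoped commutatorElement

local notation "KK" => relsOfCommGood ChevCore.commGoodF4 (ZMod 2)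
local notation "G₁" => genG MT KK (f4Words (ZMod 2) (2 ^ 0))
local notation "DD" => Gens.data (gens fr card_two)

theorem ev_nil : ev [] = (1 : GG) := rfl

theorem ne_one_of_neB {w : List (Fin MT.tab.n)} (h : neB w = true) : ev w ≠ 1 := by
  intro h1
  simp only [neB, List.any_eq_true, Bool.and_eq_true, Bool.not_eq_true', List.mem_range, Nat.blt_eq] at h
  obtain ⟨c, hc, hne, hlt⟩ := h
  have hm : toVec (appW (w.map Fin.val) (2 ^ c)) = toVec (2 ^ c) := by
    rw [appW_spec _ (fun r hr => by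
      obtain ⟨s, -, rfl⟩ := List.mem_map.1 hr
      exact s.isLt), ← mat_ev, h1]
    simp [Model.mat]
  rw [toVec_inj hlt (Nat.pow_lt_pow_right (by norm_num) hc) hm] at hne
  simp at hne

theorem even_getD {L : List (List (ℕ × List (Fin MT.tab.n)))} (hL : ∀ x ∈ L, x ∈ pcL ++ letL) (k : ℕ) :
    Even1 (ev (blksW (L.getD k []))) := by
  by_cases hk : k < L.length
  · rw [List.getD_eq_getElem L [] hk]
    exact blks_even (List.all_eq_true.1 even_ok _ (hL _ (List.getElem_mem hk)))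
  · rw [List.getD_eq_default L [] (by omega)]
    exact ⟨one_mem _, Chi.one⟩

theorem uw_even (k : ℕ) : Even1 (ev (uw k)) := even_getD (fun _ h => List.mem_append_left _ h) k

theorem hw_mem (c : ℕ) : ev (hw c) ∈ TG := by
  rw [hw, ev_nkV]
  exact n_mem _

theorem let_even (k : ℕ) : Even1 (ev (blksW (letL.getD k []))) :=
  even_getD (fun _ h => List.mem_append_right _ h) k

theorem lw_mem : ∀ j : ℕ, ev (lw j) ∈ TG
  | 0 => (let_even 0).mem
  | 1 => (let_even 1).mem
  | 2 => (let_even 2).mem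
  | 3 => by rw [lw, ev_nkV]; exact n_mem 0
  | 4 => by rw [lw, ev_nkV]; exact n_mem 1
  | _ + 5 => (let_even 3).mem

theorem wW_mem : ∀ l : List ℕ, ev (wW l) ∈ TG
  | [] => one_mem _
  | j :: l => by
    rw [wW, List.flatMap_cons, ev_append]
    exact mul_mem (lw_mem j) (wW_mem l)

/-- A word as an element. -/
noncomputable def el (l : List ℕ) : ↥TG := ⟨ev (wW l), wW_mem l⟩

theorem el_append (a b : List ℕ) : el (a ++ b) = el a * el b := by
  refine Subtype.ext ?_
  show ev (wW (a ++ b)) = ev (wW a) * ev (wW b)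
  rw [wW, List.flatMap_append, ev_append]
  rfl

theorem el_nil : el [] = 1 := Subtype.ext rfl

theorem el_eq {a b : List ℕ} (h : eqF (wW a) (wW b) = true) : el a = el b := Subtype.ext (ev_eqF h)

theorem el_one {a : List ℕ} (h : eqF (wW a) [] = true) : el a = 1 := Subtype.ext (ev_eqF h)

theorem el_ne {a : List ℕ} (h : neB (wW a) = true) : el a ≠ 1 := fun e =>
  ne_one_of_neB h (congrArg Subtype.val e)

theorem el_pow (w : List ℕ) : ∀ n : ℕ, el (List.replicate n w).flatten = el w ^ n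
  | 0 => el_nil
  | n + 1 => by rw [List.replicate_succ, List.flatten_cons, el_append, el_pow w n, pow_succ']

/-- A generator in the derived group. -/
noncomputable def uT (k : ℕ) : ↥TG := ⟨ev (uw k), (uw_even k).mem⟩

/-- A conjugating element in the derived group. -/
noncomputable def hT (c : ℕ) : ↥TG := ⟨ev (hw c), hw_mem c⟩

/-- A generator. -/
noncomputable def uG (k : ℕ) : GG := ev (uw k)

theorem evW_uG : ∀ l : List ℕ, PcLift.evW uG l = ev (uW l)
  | [] => rfl
  | k :: l => by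
    rw [PcLift.evW_cons, evW_uG l, uW, uW, List.flatMap_cons, ev_append]
    rfl

theorem coe_evW (l : List ℕ) : ((PcLift.evW uT l : ↥TG) : GG) = ev (uW l) := by
  rw [← evW_uG]
  exact PcLift.map_evW (TG.subtype) uT l

theorem rel_TG : ∀ i < tbl.n, ∀ j ≤ i, uT i * uT j = PcLift.evW uT (tbl.R i j) := by
  intro i hi j hj
  refine Subtype.ext ?_
  have h := rel_ok
  simp only [List.all_eq_true, List.mem_range] at h
  rw [coe_evW]
  show ev (uw i) * ev (uw j) = _
  rw [← ev_append, ev_eqF (h i hi j (by omega))]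

theorem conj_TG : ∀ v < tbl.sl.length, hT (tbl.S v).1 * PcLift.evW uT (tbl.S v).2.1 =
    PcLift.evW uT (tbl.S v).2.2 * hT (tbl.S v).1 := by
  intro v hv
  refine Subtype.ext ?_
  have h := conj_ok
  simp only [List.all_eq_true, List.mem_range] at h
  rw [Subgroup.coe_mul, Subgroup.coe_mul, coe_evW, coe_evW]
  show ev (hw _) * _ = _ * ev (hw _)
  rw [← ev_append, ev_eqF (h v hv), ev_append]

theorem ev_uW_mem {l : List ℕ} (h : ∀ x ∈ l, x < tbl.n) : ev (uW l) ∈ PcLift.tail tbl uG 0 :=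
  evW_uG l ▸ PcLift.evW_mem_tail tbl uG fun x hx => ⟨Nat.zero_le _, h x hx⟩

theorem gen_words : ∀ (W : List (Fin 2)) (P : RMap), genB W P = true → ∀ v ∈ wordsT W,
    ev (v.2.map P) ∈ Subgroup.closure (insert (ev gamW) {x | ∃ k, k < tbl.n ∧ uG k = x}) := by
  intro W
  induction W with
  | nil =>
    intro P _ v hv
    obtain rfl : v = (false, []) := List.mem_singleton.1 hv
    exact one_mem _
  | cons k W ih =>
    intro P hB v hv
    simp only [genB, Bool.and_eq_true, List.all_eq_true, Bool.or_eq_true, decide_eq_true_eq,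
      List.any_eq_true] at hB
    obtain ⟨a, ha, u, hu, rfl⟩ := wordsT_cons.1 hv
    rw [List.map_append, ev_append, List.map_map]
    refine mul_mem ?_ (ih _ hB.2 u hu)
    rcases hB.1 a ha with h0 | ⟨r, hr, e⟩
    · rw [h0]; exact one_mem _
    · have h := row_ok
      simp only [List.all_eq_true, Bool.and_eq_true, decide_eq_true_eq] at h
      obtain ⟨h1, h2⟩ := h r hr
      rw [e, ev_eqF h1, ev_append]
      refine mul_mem ?_ ?_
      · rw [← evW_uG]
        refine list_prod_mem fun y hy => ?_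
        obtain ⟨x, hx, rfl⟩ := List.mem_map.1 hy
        exact Subgroup.subset_closure (Or.inr ⟨x, h2 x hx, rfl⟩)
      · split_ifs
        · exact Subgroup.subset_closure (Or.inl rfl)
        · exact one_mem _

theorem card_tail_ge : 2 ^ tbl.n ≤ Nat.card (PcLift.tail tbl uT 0) := by
  have hmap : (PcLift.tail tbl uT 0).map TG.subtype = PcLift.tail tbl uG 0 := by
    refine (MonoidHom.map_closure _ _).trans (congrArg Subgroup.closure (Set.ext fun x => ?_))
    constructor
    · rintro ⟨_, ⟨k, h1, h2, rfl⟩, rfl⟩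
      exact ⟨k, h1, h2, rfl⟩
    · rintro ⟨k, h1, h2, rfl⟩
      exact ⟨uT k, ⟨k, h1, h2, rfl⟩, rfl⟩
  rw [← Subgroup.card_map_of_injective TG.subtype_injective, hmap]
  set S := PcLift.tail tbl uG 0
  have hg := gam_ok
  simp only [Bool.and_eq_true, List.all_eq_true, List.mem_range, decide_eq_true_eq] at hg
  obtain ⟨⟨hconj, hsq⟩, hsq'⟩ := hg
  have hS : ∀ k < tbl.n, uG k ∈ S := fun k hk => Subgroup.subset_closure ⟨k, Nat.zero_le _, hk, rfl⟩
  have hc : ev gamW * ev gamW ∈ S := by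
    rw [← ev_append, ev_eqF hsq]
    exact ev_uW_mem hsq'
  have hle : (DD).U1 ≤ Subgroup.closure (insert (ev gamW) {x | ∃ k, k < tbl.n ∧ uG k = x}) := by
    intro u hu
    obtain ⟨v, hv, rfl⟩ := words_spec _ (tail_longest 1).1 u (mem_P (tail_longest 1) hu)
    simpa using gen_words _ id gen_ok v hv
  have h2 := PcLift.card_closure_le_two_mul S (ev gamW)
    (insert (ev gamW) {x | ∃ k, k < tbl.n ∧ uG k = x}) (fun g hgS => by
      refine conj_closure ?_ g hgS
      rintro _ ⟨k, -, hk, rfl⟩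
      obtain ⟨e, he⟩ := hconj k hk
      show ev gamW * ev (uw k) * (ev gamW)⁻¹ ∈ _
      rw [← ev_append, ev_eqF e, ev_append, mul_inv_cancel_right]
      exact ev_uW_mem he) hc (by
      rintro x (rfl | ⟨k, hk, rfl⟩)
      · exact Or.inr hc
      · exact Or.inl (hS k hk))
  have h3 : Nat.card ↥(DD).U1 ≤ 2 * Nat.card S := le_trans (Subgroup.card_le_of_le hle) h2
  rw [card_U1] at h3
  show 2 ^ 11 ≤ _
  omega

attribute [local irreducible] TG el uT hT

theorem card_tail_eq [Finite ↥TG] : Nat.card (PcLift.tail tbl uT 0) = 2 ^ tbl.n := by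
  refine le_antisymm ?_ card_tail_ge
  have h2 := @PcLift.card_tail_le ↥TG _ tbl _ uT tbl_ok rel_TG
  have h3 := h2 tbl.n
  rw [Nat.sub_self] at h3
  exact h3

universe v

/-- Any stem extension with kernel of exponent two is trivial. -/
theorem ker_eq_bot_of_exponent_two {Γ : Type v} [Group Γ] [Finite Γ] (σ : Γ →* ↥TG)
    (hσ : Cfsg.IsStemExtension σ) (hexp : ∀ z ∈ σ.ker, z * z = 1) : σ.ker = ⊥ := by
  haveI : Finite ↥TG := Finite.of_surjective σ hσ.1
  set S := PcLift.tail tbl uT 0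
  have hS : σ.ker ⊓ ⁅S.comap σ, S.comap σ⁆ = ⊥ :=
    PcLift.inf_commutator_eq_bot tbl σ hσ.1 hσ.2.1 hexp tbl_ok uT hT rel_TG conj_TG card_tail_ge
  have hidx : Odd S.index := by
    have h := Subgroup.card_mul_index S
    rw [card_tail_eq, card_TG] at h
    have h' : S.index = 8775 := Nat.eq_of_mul_eq_mul_left (by norm_num) h
    rw [h']
    exact ⟨4387, by norm_num⟩
  rw [eq_bot_iff]
  intro z hz
  have : (S.comap σ).FiniteIndex := inferInstance
  have hmem := Cfsg.Agent.Schur.pow_index_mem_commutator (S.comap σ) (hσ.2.1 hz) (hσ.2.2 hz)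
  rw [Subgroup.map_subtype_commutator, Subgroup.index_comap_of_surjective S hσ.1] at hmem
  have h1 : z ^ S.index ∈ σ.ker ⊓ ⁅S.comap σ, S.comap σ⁆ := ⟨pow_mem hz _, hmem⟩
  rw [hS, Subgroup.mem_bot] at h1
  obtain ⟨m, hm⟩ := hidx
  rw [hm, pow_succ, pow_mul, pow_two, hexp z hz, one_pow, one_mul] at h1
  exact Subgroup.mem_bot.2 h1

theorem el_inv_mul {a b : List ℕ} (h : eqF (wW (a ++ b ++ a)) (wW b) = true) :
    el b * el a = (el a)⁻¹ * el b := by
  have e := el_eq h
  rw [el_append, el_append] at e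
  rw [eq_inv_mul_iff_mul_eq, ← mul_assoc, e]

theorem el_comm {a b : List ℕ} (h : eqF (wW (a ++ b)) (wW (b ++ a)) = true) : el a * el b = el b * el a := by
  rw [← el_append, ← el_append, el_eq h]

/-- The local condition at the odd primes. -/
theorem local_odd {Γ : Type v} [Group Γ] [Finite Γ] [Finite ↥TG] (σ : Γ →* ↥TG)
    (hσ : Cfsg.IsStemExtension σ) {ℓ : ℕ} (hℓ : ℓ.Prime) (h2 : ℓ ≠ 2) :
    ∃ S : Subgroup ↥TG, ¬ ℓ ∣ S.index ∧ σ.ker ⊓ ⁅S.comap σ, S.comap σ⁆ = ⊥ := by
  by_cases hd : ℓ ∣ Nat.card ↥TG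
  swap
  · refine ⟨⊥, by rwa [Subgroup.index_bot], KnownSimple.inf_commutator_eq_bot_of_comm σ ⊥ ?_⟩
    intro x hx y _
    have hxk : x ∈ σ.ker := hx
    rw [commutatorElement_eq_one_iff_mul_comm]
    exact (Subgroup.mem_center_iff.1 (hσ.2.1 hxk) y).symm
  have h35 : ℓ = 3 ∨ ℓ = 5 ∨ ℓ = 13 := by
    rw [card_TG, show 2 ^ 11 * 8775 = 2 ^ 11 * (3 ^ 3 * (5 ^ 2 * 13)) by norm_num] at hd
    have hp : ∀ {p k : ℕ}, p.Prime → ℓ ∣ p ^ k → ℓ = p := fun hp h =>
      (Nat.prime_dvd_prime_iff_eq hℓ hp).1 (hℓ.dvd_of_dvd_pow h)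
    rcases hℓ.dvd_mul.1 hd with h | h
    · exact absurd (hp Nat.prime_two h) h2
    rcases hℓ.dvd_mul.1 h with h | h
    · exact Or.inl (hp (by norm_num) h)
    rcases hℓ.dvd_mul.1 h with h | h
    · exact Or.inr (Or.inl (hp (by norm_num) h))
    · exact Or.inr (Or.inr ((Nat.prime_dvd_prime_iff_eq hℓ (by norm_num)).1 h))
  rcases h35 with rfl | rfl | rfl
  · have h := three_ok
    simp only [Bool.and_eq_true] at h
    obtain ⟨⟨⟨⟨⟨⟨⟨⟨⟨hx, hy⟩, hne⟩, hC⟩, hcx⟩, hcy⟩, h1y⟩, h2x⟩, h1c⟩, h2c⟩ := h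
    have ex : el wX ^ 3 = 1 := by rw [← el_one hx, el_append, el_append, pow_succ, pow_two]
    have ey : el wY ^ 3 = 1 := by rw [← el_one hy, el_append, el_append, pow_succ, pow_two]
    have hinv : ∀ {g : ↥TG}, g ^ 3 = 1 → g⁻¹ = g * g := fun hg =>
      inv_eq_of_mul_eq_one_right (by rw [← mul_assoc, ← pow_two, ← pow_succ, hg])
    have hcdef : el wC = el wX * el wY * (el wX)⁻¹ * (el wY)⁻¹ := by
      rw [hinv ex, hinv ey, el_eq hC]
      simp only [el_append, mul_assoc]
    have hc3 : el wC ^ 3 = 1 := by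
      have hcomm : Commute (el wX) ⁅el wX, el wY⁆ := by
        rw [commutatorElement_def, ← hcdef]; exact (el_comm hcx).symm
      have e := OddPrimes.commutator_pow_left hcomm 3
      rw [ex, commutatorElement_def, one_mul, inv_one, mul_one, mul_inv_cancel, commutatorElement_def,
        ← hcdef] at e
      exact e.symm
    exact OddPrimes.three σ hσ.1 hσ.2.1 (x := el wX) (y := el wY) (c := el wC) (h₁ := el wH1)
      (h₂ := el wH2) (by rw [hcdef]; group) ex ey hc3 (el_ne hne) (el_comm hcx) (el_comm hcy)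
      (el_inv_mul h1c) (el_comm h1y) (el_inv_mul h2c) (el_comm h2x) (by rw [card_TG]; norm_num)
  · have h := five_ok
    simp only [Bool.and_eq_true] at h
    obtain ⟨⟨⟨⟨⟨⟨ha, hb⟩, hab⟩, hna⟩, hnb⟩, hane⟩, hbne⟩ := h
    exact OddPrimes.five σ hσ.1 hσ.2.1 (a := el wA) (b := el wB) (g := el wN)
      (by rw [← el_pow, el_one ha]) (by rw [← el_pow, el_one hb]) (el_ne hane) (el_ne hbne)
      (el_comm hab) (el_inv_mul hna) (el_comm hnb) (by rw [card_TG]; norm_num)
  · have h := thirteen_ok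
    simp only [Bool.and_eq_true] at h
    haveI : Fact (Nat.Prime 13) := ⟨by norm_num⟩
    have ho : orderOf (el wD) = 13 := orderOf_eq_prime (by rw [← el_pow, el_one h.1]) (el_ne h.2)
    refine ⟨Subgroup.zpowers (el wD), ?_, KnownSimple.inf_commutator_eq_bot_of_comm σ _ fun x hx y hy =>
      KnownSimple.comm_of_cyclic σ hσ.2.1 _ hσ.1 hx hy⟩
    refine OddPrimes.not_dvd_index _ (k := 1) ?_ (by rw [card_TG]; norm_num)
    rw [Nat.card_zpowers, ho, pow_one]

/-- Every stem extension of the derived group is trivial. -/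
theorem ker_eq_bot {Γ : Type v} [Group Γ] [Finite Γ] (σ : Γ →* ↥TG) (hσ : Cfsg.IsStemExtension σ) :
    σ.ker = ⊥ := by
  haveI : Finite ↥TG := Finite.of_surjective σ hσ.1
  by_contra hne
  obtain ⟨⟨z, hz⟩, hz1'⟩ := (Subgroup.ne_bot_iff_exists_ne_one).1 hne
  have hz1 : z ≠ 1 := fun e => hz1' (Subtype.ext e)
  obtain ⟨ℓ, hℓ, hdvd⟩ := Nat.exists_prime_and_dvd (fun e => hz1 (orderOf_eq_one_iff.1 e))
  have hw : z ^ (orderOf z / ℓ) ∈ σ.ker := pow_mem hz _
  set w := z ^ (orderOf z / ℓ) with hwdef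
  have hord : orderOf w = ℓ := orderOf_pow_orderOf_div (orderOf_pos z).ne' hdvd
  by_cases h2 : ℓ = 2
  · -- divide by the squares in the kernel
    let L : Subgroup Γ :=
      { carrier := {g | ∃ k ∈ σ.ker, k * k = g}
        one_mem' := ⟨1, one_mem _, one_mul _⟩
        mul_mem' := by
          rintro _ _ ⟨a, ha, rfl⟩ ⟨b, hb, rfl⟩
          refine ⟨a * b, mul_mem ha hb, ?_⟩
          rw [mul_assoc a b, ← mul_assoc b, ← Subgroup.mem_center_iff.1 (hσ.2.1 hb) a]
          group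
        inv_mem' := by
          rintro _ ⟨a, ha, rfl⟩
          exact ⟨a⁻¹, inv_mem ha, by group⟩ }
    have hLker : L ≤ σ.ker := by rintro _ ⟨a, ha, rfl⟩; exact mul_mem ha ha
    haveI : L.Normal := ⟨fun x hx g => by
      rwa [Subgroup.mem_center_iff.1 (hσ.2.1 (hLker hx)) g, mul_inv_cancel_right]⟩
    set σ' : Γ ⧸ L →* ↥TG := QuotientGroup.lift L σ hLker
    have hmk : Function.Surjective (QuotientGroup.mk' L) := QuotientGroup.mk'_surjective L
    have hker' : σ'.ker = σ.ker.map (QuotientGroup.mk' L) := QuotientGroup.ker_lift L σ hLker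
    have hs' : Cfsg.IsStemExtension σ' := by
      refine ⟨fun g => ?_, ?_, ?_⟩
      · obtain ⟨x, rfl⟩ := hσ.1 g
        exact ⟨QuotientGroup.mk' L x, rfl⟩
      · rw [hker']
        rintro _ ⟨x, hx, rfl⟩
        rw [Subgroup.mem_center_iff]
        intro y
        obtain ⟨y, rfl⟩ := hmk y
        rw [← map_mul, ← map_mul, Subgroup.mem_center_iff.1 (hσ.2.1 hx) y]
      · rw [hker']
        refine le_trans (Subgroup.map_mono hσ.2.2) (le_of_eq ?_)
        rw [commutator_def, Subgroup.map_commutator, Subgroup.map_top_of_surjective _ hmk]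
        rfl
    have hbot := ker_eq_bot_of_exponent_two σ' hs' (by
      rw [hker']
      rintro _ ⟨x, hx, rfl⟩
      rw [← map_mul]
      exact (QuotientGroup.eq_one_iff _).2 ⟨x, hx, rfl⟩)
    rw [hker', Subgroup.map_eq_bot_iff, QuotientGroup.ker_mk'] at hbot
    have hsur : Function.Surjective (fun k : σ.ker => k * k) := by
      rintro ⟨x, hx⟩
      obtain ⟨a, ha, e⟩ := hbot hx
      exact ⟨⟨a, ha⟩, Subtype.ext e⟩
    have hinj := (Finite.injective_iff_surjective).2 hsur
    have hw1 : w ≠ 1 := fun e => by rw [e, orderOf_one, h2] at hord; omega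
    refine hw1 (congrArg Subtype.val (hinj (a₁ := ⟨w, hw⟩) (a₂ := 1) (Subtype.ext ?_)))
    show w * w = 1 * 1
    rw [mul_one, ← pow_two, ← h2, ← hord, pow_orderOf_eq_one]
  · obtain ⟨S, hS, hSH⟩ := local_odd σ hσ hℓ h2
    have : (S.comap σ).FiniteIndex := inferInstance
    have hmem := Cfsg.Agent.Schur.pow_index_mem_commutator (S.comap σ) (hσ.2.1 hw) (hσ.2.2 hw)
    rw [Subgroup.map_subtype_commutator, Subgroup.index_comap_of_surjective S hσ.1] at hmem
    have : w ^ S.index ∈ σ.ker ⊓ ⁅S.comap σ, S.comap σ⁆ := ⟨pow_mem hw _, hmem⟩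
    rw [hSH, Subgroup.mem_bot] at this
    exact hS (hord ▸ orderOf_dvd_of_pow_eq_one this)

/-- Transport to an isomorphic derived group. -/
theorem hasTrivialMultiplier_equiv {H G' : Type} [Group H] [Group G'] {A : Subgroup H} {B : Subgroup G'}
    (e : ↥A ≃* ↥B) {P : Subgroup H} (hP : P = (commutator ↥A).map A.subtype) [Finite ↥P]
    (hA : ∀ (Γ : Type) [Group Γ] [Finite Γ] (σ : Γ →* ↥P), Cfsg.IsStemExtension σ → σ.ker = ⊥) :
    Cfsg.HasCyclicSchurMultiplier ↥(commutator ↥B) 1 := by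
  have hmap : (commutator ↥A).map (e : ↥A →* ↥B) = commutator ↥B := by
    rw [commutator_def, Subgroup.map_commutator, Subgroup.map_top_of_surjective _ e.surjective]
    rfl
  let f : ↥P ≃* ↥(commutator ↥B) :=
    (MulEquiv.subgroupCongr hP).trans (((commutator ↥A).equivMapOfInjective _ A.subtype_injective).symm.trans
      (((commutator ↥A).equivMapOfInjective (e : ↥A →* ↥B) e.injective).trans (MulEquiv.subgroupCongr hmap)))
  haveI : Finite ↥(commutator ↥B) := Finite.of_equiv _ f.toEquiv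
  refine ⟨⟨_, inferInstance, inferInstance, MonoidHom.id _, ⟨Function.surjective_id, ?_, ?_⟩, ?_⟩,
    fun Γ _ _ σ hσ => ⟨1, fun x => ⟨1, ?_⟩⟩⟩
  · rw [MonoidHom.ker_id]; exact bot_le
  · rw [MonoidHom.ker_id]; exact bot_le
  · rw [MonoidHom.ker_id]
    exact ⟨MulEquiv.ofUnique⟩
  · have hk : ((f.symm : ↥(commutator ↥B) →* ↥P).comp σ).ker = σ.ker :=
      MonoidHom.ker_mulEquiv_comp σ f.symm
    have h : σ.ker = ⊥ := hk ▸ hA Γ ((f.symm : ↥(commutator ↥B) →* ↥P).comp σ)
      ⟨f.symm.surjective.comp hσ.1, hk.symm ▸ hσ.2.1, hk.symm ▸ hσ.2.2⟩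
    exact Subtype.ext (Subgroup.mem_bot.1 (h ▸ x.2)).symm

theorem finite_TG : Finite ↥TG := Nat.finite_of_card_ne_zero (by rw [card_TG]; norm_num)

end Cfsg.Agent.ChevGroup.TitsMult
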