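import Cfsg.Agent.ChevGroup.Tits.PcData

/-!
Kernel checks for the Schur multiplier of the Tits group.
-/

set_option autoImplicit false
set_option maxRecDepth 8000

namespace Cfsg.Agent.ChevGroup.TitsMult

open Cfsg.Lie ChevCore Twisted Twisted.TypeF4 Twisted.Tits TitsIdx

/-- The word of a generator. -/
def uw (k : ℕ) : List (Fin MT.tab.n) := blksW (pcL.getD k [])

/-- The word of a product of generators. -/
def uW (l : List ℕ) : List (Fin MT.tab.n) := l.flatMap uw

/-- The word of a conjugating element. -/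
def hw (c : ℕ) : List (Fin MT.tab.n) := nkV (if c = 0 then 0 else 1)

/-- The word of a letter. -/
def lw : ℕ → List (Fin MT.tab.n)
  | 0 => blksW (letL.getD 0 [])
  | 1 => blksW (letL.getD 1 [])
  | 2 => blksW (letL.getD 2 [])
  | 3 => nkV 0
  | 4 => nkV 1
  | _ => blksW (letL.getD 3 [])

/-- The word of a product of letters. -/
def wW (l : List ℕ) : List (Fin MT.tab.n) := l.flatMap lw

/-- Two words move every coordinate vector in the same way. -/
noncomputable def eqF (a b : List (Fin MT.tab.n)) : Bool :=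
  (List.range 52).all fun c => Nat.beq (appW (a.map Fin.val) (2 ^ c)) (appW (b.map Fin.val) (2 ^ c))

theorem toVec_two_pow (b : chevF4.Idx) : toVec (2 ^ code chevF4 b) = Pi.single b 1 := by
  funext a
  by_cases h : a = b
  · subst h; simp [toVec]
  · have hne : code chevF4 b ≠ code chevF4 a := fun e => h (code_injective chevF4 e).symm
    simp [toVec, hne, h]

theorem ev_eqF {a b : List (Fin MT.tab.n)} (h : eqF a b = true) : ev a = ev b := by
  refine Model.mat_inj ?_
  simp only [eqF, List.all_eq_true, List.mem_range] at h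
  rw [mat_ev, mat_ev]
  refine matrix_ext_col chevF4 fun v => ?_
  have hlt : ∀ (w : List (Fin MT.tab.n)), ∀ r ∈ w.map Fin.val, r < 48 := fun w r hr => by
    obtain ⟨s, -, rfl⟩ := List.mem_map.1 hr
    exact s.isLt
  rw [← toVec_two_pow, ← appW_spec _ (hlt a), ← appW_spec _ (hlt b),
    Nat.eq_of_beq_eq_true (h _ (code_lt chevF4 v))]

theorem tbl_ok : tbl.ok = true := by decide +kernel

theorem rel_ok : ((List.range tbl.n).all fun i => (List.range (i + 1)).all fun j =>
    eqF (uw i ++ uw j) (uW (tbl.R i j))) = true := by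
  decide +kernel

theorem conj_ok : ((List.range tbl.sl.length).all fun v =>
    eqF (hw (tbl.S v).1 ++ uW (tbl.S v).2.1) (uW (tbl.S v).2.2 ++ hw (tbl.S v).1)) = true := by
  decide +kernel

theorem even_ok : ((pcL ++ letL).all fun L =>
    L.all blkB && okList ((blksW L).map Fin.val) false) = true := by
  decide +kernel

theorem gam_ok : ((List.range tbl.n).all (fun k => eqF (gamW ++ uw k) (uW (gamConj.getD k []) ++ gamW) &&
      (gamConj.getD k []).all fun x => decide (x < tbl.n)) &&
    eqF (gamW ++ gamW) (uW gamSq) && gamSq.all fun x => decide (x < tbl.n)) = true := by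
  decide +kernel

theorem row_ok : (blkRows.all fun r => eqF r.1 (uW r.2.1 ++ if r.2.2 then gamW else []) &&
    r.2.1.all fun x => decide (x < tbl.n)) = true := by
  decide +kernel

/-- Every block of the positive part is in the table. -/
def genB : List (Fin 2) → RMap → Bool
  | [], _ => true
  | k :: W, P => (xw k).all (fun a => decide (a.2 = []) || blkRows.any fun r => decide (a.2.map P = r.1)) &&
      genB W (fun r => P (pfl k r))

theorem gen_ok : genB (1 :: tailW 1) id = true := by decide +kernel

/-- A word moves a coordinate vector. -/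
noncomputable def neB (w : List (Fin MT.tab.n)) : Bool :=
  (List.range 52).any fun c => !Nat.beq (appW (w.map Fin.val) (2 ^ c)) (2 ^ c) &&
    Nat.blt (appW (w.map Fin.val) (2 ^ c)) (2 ^ 52)

theorem thirteen_ok : (eqF (wW (List.replicate 13 wD).flatten) [] && neB (wW wD)) = true := by
  decide +kernel

theorem five_ok : (eqF (wW (List.replicate 5 wA).flatten) [] && eqF (wW (List.replicate 5 wB).flatten) [] &&
    eqF (wW (wA ++ wB)) (wW (wB ++ wA)) && eqF (wW (wA ++ wN ++ wA)) (wW wN) &&
    eqF (wW (wN ++ wB)) (wW (wB ++ wN)) && neB (wW wA) && neB (wW wB)) = true := by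
  decide +kernel

theorem three_ok : (eqF (wW (wX ++ wX ++ wX)) [] && eqF (wW (wY ++ wY ++ wY)) [] && neB (wW wC) &&
    eqF (wW wC) (wW (wX ++ wY ++ wX ++ wX ++ wY ++ wY)) &&
    eqF (wW (wC ++ wX)) (wW (wX ++ wC)) && eqF (wW (wC ++ wY)) (wW (wY ++ wC)) &&
    eqF (wW (wH1 ++ wY)) (wW (wY ++ wH1)) && eqF (wW (wH2 ++ wX)) (wW (wX ++ wH2)) &&
    eqF (wW (wC ++ wH1 ++ wC)) (wW wH1) && eqF (wW (wC ++ wH2 ++ wC)) (wW wH2)) = true := by
  decide +kernel

end Cfsg.Agent.ChevGroup.TitsMult
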