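import Mathlib

/-!
Lifting a power-commutator presentation through a central extension with kernel of exponent two: the
signs in the relations are killed by equations from associativity and from conjugations.
-/

set_option autoImplicit false

namespace Cfsg.Agent.ChevGroup.PcLift

open scoped commutatorElement

/-- Positions of the relations. -/
def tri (i : ℕ) : ℕ := i * (i + 1) / 2

/-- The tables of a presentation, of conjugations, and a certificate. -/
structure Tbl where
  n : ℕ
  rhs : List (List ℕ)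
  pairs : List (ℕ × ℕ)
  defs : List (ℕ × ℕ × ℕ)
  sl : List (ℕ × List ℕ × List ℕ)
  assoc : List (ℕ × ℕ × ℕ)
  inv : List (List ℕ × List ℕ)
  eqv : List ℕ
  cert : List ℕ

namespace Tbl

variable (D : Tbl)

/-- A right side. -/
def R (i j : ℕ) : List ℕ := D.rhs.getD (tri i + j) []

/-- The number of signs. -/
def M : ℕ := tri D.n + D.sl.length

/-- A conjugation entry. -/
def S (v : ℕ) : ℕ × List ℕ × List ℕ := D.sl.getD v (0, [], [])

/-- One step of collection. -/
def step : List ℕ → Option (List ℕ × ℕ)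
  | [] => none
  | [_] => none
  | i :: j :: r =>
    if decide (j ≤ i ∧ i < D.n) then some (D.R i j ++ r, 2 ^ (tri i + j))
    else (step (j :: r)).map fun p => (i :: p.1, p.2)

/-- Collection. -/
def collect : ℕ → List ℕ × ℕ → List ℕ × ℕ
  | 0, p => p
  | f + 1, p => match D.step p.1 with
    | none => p
    | some q => collect f (q.1, p.2 ^^^ q.2)

/-- The equation of two ways to collect three letters. -/
def assocM (t : ℕ × ℕ × ℕ) : ℕ :=
  if decide (t.2.1 ≤ t.1 ∧ t.1 < D.n ∧ t.2.2 ≤ t.2.1) then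
    if decide ((D.collect 80 (D.R t.1 t.2.1 ++ [t.2.2], 2 ^ (tri t.1 + t.2.1))).1 =
        (D.collect 80 (t.1 :: D.R t.2.1 t.2.2, 2 ^ (tri t.2.1 + t.2.2))).1) then
      (D.collect 80 (D.R t.1 t.2.1 ++ [t.2.2], 2 ^ (tri t.1 + t.2.1))).2 ^^^
        (D.collect 80 (t.1 :: D.R t.2.1 t.2.2, 2 ^ (tri t.2.1 + t.2.2))).2
    else 0
  else 0

/-- The signs picked up by a conjugation. -/
def sMask (A : List ℕ) : ℕ := A.foldr (fun x m => 2 ^ (tri D.n + x) ^^^ m) 0

/-- The words before and after conjugation. -/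
def qW (A : List ℕ) : List ℕ := A.flatMap fun x => (D.S x).2.1

/-- The words after conjugation. -/
def fW (A : List ℕ) : List ℕ := A.flatMap fun x => (D.S x).2.2

/-- The equation of a conjugated identity. -/
def invM (p : List ℕ × List ℕ) : ℕ :=
  let c := (D.S ((p.1 ++ p.2).headD 0)).1
  if (p.1 ++ p.2).all (fun x => decide (x < D.sl.length) && decide ((D.S x).1 = c)) then
    if decide ((D.collect 80 (D.qW p.1, 0)).1 = (D.collect 80 (D.qW p.2, 0)).1 ∧
        (D.collect 80 (D.fW p.1, 0)).1 = (D.collect 80 (D.fW p.2, 0)).1) then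
      ((D.collect 80 (D.qW p.1, 0)).2 ^^^ (D.collect 80 (D.qW p.2, 0)).2) ^^^
        (((D.collect 80 (D.fW p.1, 0)).2 ^^^ D.sMask p.1) ^^^ ((D.collect 80 (D.fW p.2, 0)).2 ^^^ D.sMask p.2))
    else 0
  else 0

/-- The equation of a definition. -/
def defM (t : ℕ × ℕ × ℕ) : ℕ := 2 ^ (tri t.2.1 + t.2.2)

/-- All equations. -/
def masks : List ℕ := D.defs.map defM ++ D.assoc.map D.assocM ++ D.inv.map D.invM

/-- A combination of equations. -/
def comb (c : ℕ) : List ℕ → ℕ
  | [] => 0
  | m :: r => (bif c % 2 == 1 then m else 0) ^^^ comb (c / 2) r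

/-- The definitions, latest first. -/
def defsOk : List (ℕ × ℕ × ℕ) → Bool
  | [] => true
  | (k, i, j) :: r =>
    decide (j ≤ i ∧ i < D.n ∧ D.R i j = (D.R i j).dropLast ++ [k] ∧
        k ∉ i :: j :: (D.R i j).dropLast) &&
      r.all (fun t => decide (k ∉ t.2.1 :: t.2.2 :: D.R t.2.1 t.2.2)) && defsOk r

/-- All checks. -/
def ok : Bool :=
  ((List.range D.n).all fun i => (List.range (i + 1)).all fun j =>
    decide (tri i + j < tri D.n) && decide (D.pairs.getD (tri i + j) (0, 0) = (i, j)) &&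
      if i = j then (D.R i j).all (fun x => decide (i < x ∧ x < D.n))
      else decide ((D.R i j).head? = some j) && (D.R i j).tail.all fun x => decide (j < x ∧ x < D.n)) &&
  D.defsOk D.defs &&
  decide (D.masks = D.eqv) &&
  (List.range (tri D.n)).all fun v => decide (comb (D.cert.getD v 0) D.eqv = 2 ^ v)

end Tbl

variable {G Γ : Type*} [Group G] [Group Γ]

/-- The value of a word. -/
def evW (l : ℕ → G) (w : List ℕ) : G := (w.map l).prod

theorem evW_append (l : ℕ → G) (a b : List ℕ) : evW l (a ++ b) = evW l a * evW l b := by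
  simp [evW]

theorem evW_cons (l : ℕ → G) (a : ℕ) (b : List ℕ) : evW l (a :: b) = l a * evW l b := by
  simp [evW]

theorem evW_nil (l : ℕ → G) : evW l [] = 1 := rfl

theorem evW_congr {l l' : ℕ → G} {w : List ℕ} (h : ∀ x ∈ w, l x = l' x) : evW l w = evW l' w := by
  rw [evW, evW, List.map_congr_left h]

theorem map_evW (f : Γ →* G) (l : ℕ → Γ) (w : List ℕ) : f (evW l w) = evW (f ∘ l) w := by
  simp [evW, map_list_prod]

/-- The value of a sign vector. -/
def evM (a : ℕ → G) : ℕ → ℕ → G
  | 0, _ => 1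
  | M + 1, m => evM a M m * if m.testBit M then a M else 1

section Signs

variable (a : ℕ → Γ) (hcen : ∀ v, a v ∈ Subgroup.center Γ) (hsq : ∀ v, a v * a v = 1)

include hcen in
theorem evM_mem : ∀ M m, evM a M m ∈ Subgroup.center Γ
  | 0, _ => one_mem _
  | M + 1, m => mul_mem (evM_mem M m) (by split_ifs; exacts [hcen M, one_mem _])

include hcen in
theorem evM_comm (M m : ℕ) (g : Γ) : g * evM a M m = evM a M m * g :=
  Subgroup.mem_center_iff.1 (evM_mem a hcen M m) g

include hcen hsq in
theorem evM_xor : ∀ M x y, evM a M (x ^^^ y) = evM a M x * evM a M y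
  | 0, _, _ => (one_mul _).symm
  | M + 1, x, y => by
    have hc : ∀ g, g * a M = a M * g := Subgroup.mem_center_iff.1 (hcen M)
    rw [evM, evM, evM, evM_xor M, Nat.testBit_xor]
    cases x.testBit M <;> cases y.testBit M <;>
      simp only [Bool.bne_false, Bool.bne_true, Bool.not_false, Bool.not_true, Bool.false_eq_true, if_false,
        if_true, mul_one, mul_assoc]
    · rw [hc]
    · rw [← mul_assoc (a M), ← hc (evM a M y), mul_assoc, hsq, mul_one]

theorem evM_zero : ∀ M, evM a M 0 = 1
  | 0 => rfl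
  | M + 1 => by simp [evM, evM_zero M]

theorem evM_two_pow : ∀ M v, evM a M (2 ^ v) = if v < M then a v else 1
  | 0, _ => rfl
  | M + 1, v => by
    rw [evM, evM_two_pow M v, Nat.testBit_two_pow]
    rcases lt_trichotomy v M with h | h | h
    · rw [if_pos h, if_pos (Nat.lt_succ_of_lt h), if_neg (by simp; omega), mul_one]
    · subst h
      simp
    · rw [if_neg (show ¬ v < M by omega), if_neg (show ¬ v < M + 1 by omega), if_neg (by simp; omega), mul_one]

include hcen hsq in
theorem evM_comb (M : ℕ) : ∀ (c : ℕ) (L : List ℕ), (∀ m ∈ L, evM a M m = 1) →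
    evM a M (Tbl.comb c L) = 1
  | _, [], _ => evM_zero a M
  | c, m :: r, h => by
    rw [Tbl.comb, evM_xor a hcen hsq, evM_comb M (c / 2) r fun x hx => h x (List.mem_cons_of_mem _ hx),
      mul_one]
    cases c % 2 == 1
    · exact evM_zero a M
    · exact h m (List.mem_cons_self ..)

include hcen hsq in
theorem evM_xor_eq_one {M x y : ℕ} (h : evM a M x = evM a M y) : evM a M (x ^^^ y) = 1 := by
  rw [evM_xor a hcen hsq, h, ← evM_xor a hcen hsq, Nat.xor_self, evM_zero]

end Signs

variable (D : Tbl)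

/-- The elements from a position on. -/
def tail (l : ℕ → G) (i : ℕ) : Subgroup G := Subgroup.closure {x | ∃ k, i ≤ k ∧ k < D.n ∧ l k = x}

theorem evW_mem_tail (l : ℕ → G) {i : ℕ} {w : List ℕ} (h : ∀ x ∈ w, i ≤ x ∧ x < D.n) :
    evW l w ∈ tail D l i :=
  list_prod_mem fun y hy => by
    obtain ⟨x, hx, rfl⟩ := List.mem_map.1 hy
    exact Subgroup.subset_closure ⟨x, (h x hx).1, (h x hx).2, rfl⟩

theorem card_closure_le_two_mul [Finite G] (S : Subgroup G) (c : G) (s : Set G)
    (hconj : ∀ g ∈ S, c * g * c⁻¹ ∈ S) (hsq : c * c ∈ S) (hs : ∀ x ∈ s, x ∈ S ∨ x * c ∈ S) :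
    Nat.card (Subgroup.closure s) ≤ 2 * Nat.card S := by
  classical
  have hconj' : ∀ g ∈ S, c⁻¹ * g * c ∈ S := fun g hg => by
    rw [show c⁻¹ * g * c = (c * c)⁻¹ * (c * g * c⁻¹) * (c * c) by group]
    exact mul_mem (mul_mem (inv_mem hsq) (hconj g hg)) hsq
  have key : ∀ g ∈ Subgroup.closure s, g ∈ S ∨ g * c ∈ S := by
    intro g hg
    induction hg using Subgroup.closure_induction with
    | mem x hx => exact hs x hx
    | one => exact Or.inl (one_mem _)
    | mul a b _ _ ha hb =>
      rcases ha with ha | ha <;> rcases hb with hb | hb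
      · exact Or.inl (mul_mem ha hb)
      · exact Or.inr (by rw [mul_assoc]; exact mul_mem ha hb)
      · refine Or.inr ?_
        rw [show a * b * c = a * c * (c⁻¹ * b * c) by group]
        exact mul_mem ha (hconj' b hb)
      · refine Or.inl ?_
        rw [show a * b = a * c * (c⁻¹ * (b * c) * c) * (c * c)⁻¹ by group]
        exact mul_mem (mul_mem ha (hconj' _ hb)) (inv_mem hsq)
    | inv a _ ha =>
      rcases ha with ha | ha
      · exact Or.inl (inv_mem ha)
      · refine Or.inr ?_
        rw [show a⁻¹ * c = c * (a * c)⁻¹ * c⁻¹ * (c * c) by group]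
        exact mul_mem (hconj _ (inv_mem ha)) hsq
  have h := Nat.card_le_card_of_injective
    (fun g : Subgroup.closure s =>
      if h : (g : G) ∈ S then ((false, ⟨g, h⟩) : Bool × S) else (true, ⟨_, (key g g.2).resolve_left h⟩))
    (fun x y e => by
      dsimp only at e
      split_ifs at e with hx hy hy
      all_goals simp only [Prod.mk.injEq, Subtype.mk.injEq, Bool.false_eq_true, Bool.true_eq_false,
        false_and, true_and] at e
      · exact Subtype.ext e
      · exact Subtype.ext (mul_right_cancel e))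
  simpa [Nat.card_prod] using h

theorem card_tail_le [Finite G] (l : ℕ → G) (hok : D.ok = true)
    (hrel : ∀ i < D.n, ∀ j ≤ i, l i * l j = evW l (D.R i j)) :
    ∀ m, Nat.card (tail D l (D.n - m)) ≤ 2 ^ m
  | 0 => by
    have e : tail D l D.n = ⊥ := by
      rw [tail, Subgroup.closure_eq_bot_iff]
      rintro x ⟨k, h1, h2, -⟩
      omega
    simp [e]
  | m + 1 => by
    by_cases hm : D.n - m = 0
    · rw [show D.n - (m + 1) = D.n - m by omega, pow_succ]
      exact le_trans (card_tail_le l hok hrel m) (Nat.le_mul_of_pos_right _ (by norm_num))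
    obtain ⟨i, hi⟩ : ∃ i, D.n - m = i + 1 := ⟨D.n - m - 1, by omega⟩
    rw [show D.n - (m + 1) = i by omega]
    have ih := card_tail_le l hok hrel m
    rw [hi] at ih
    have hin : i < D.n := by omega
    simp only [Tbl.ok, Bool.and_eq_true, List.all_eq_true, List.mem_range, decide_eq_true_eq] at hok
    obtain ⟨⟨⟨hsh, -⟩, -⟩, -⟩ := hok
    refine le_trans (card_closure_le_two_mul (tail D l (i + 1)) (l i)⁻¹ _ ?_ ?_ ?_)
      (by rw [pow_succ']; exact Nat.mul_le_mul_left 2 ih)
    · intro g hg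
      rw [inv_inv]
      induction hg using Subgroup.closure_induction with
      | mem x hx =>
        obtain ⟨k, hk1, hk2, rfl⟩ := hx
        have h1 := hrel k hk2 i (by omega)
        have h2 := (hsh k hk2 i (by omega)).2
        rw [if_neg (by omega)] at h2
        simp only [Bool.and_eq_true, decide_eq_true_eq, List.all_eq_true] at h2
        obtain ⟨r, hr⟩ : ∃ r, D.R k i = i :: r := by
          rcases hR : D.R k i with _ | ⟨b, r⟩
          · simp [hR] at h2
          · exact ⟨r, by simp_all⟩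
        rw [mul_assoc, h1, hr, evW_cons, inv_mul_cancel_left]
        exact evW_mem_tail D l fun y hy => by
          have := h2.2 y (by rw [hr]; exact hy)
          omega
      | one => simp
      | mul a b _ _ ha hb =>
        rw [show (l i)⁻¹ * (a * b) * l i = ((l i)⁻¹ * a * l i) * ((l i)⁻¹ * b * l i) by group]
        exact mul_mem ha hb
      | inv a _ ha =>
        rw [show (l i)⁻¹ * a⁻¹ * l i = ((l i)⁻¹ * a * l i)⁻¹ by group]
        exact inv_mem ha
    · rw [← mul_inv_rev]
      refine inv_mem ?_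
      rw [hrel i hin i le_rfl]
      have h2 := (hsh i hin i (by omega)).2
      simp only [if_true, List.all_eq_true, decide_eq_true_eq] at h2
      exact evW_mem_tail D l fun y hy => by have := h2 y hy; omega
    · rintro x ⟨k, hk1, hk2, rfl⟩
      rcases Nat.eq_or_lt_of_le hk1 with rfl | hlt
      · exact Or.inr (by rw [mul_inv_cancel]; exact one_mem _)
      · exact Or.inl (Subgroup.subset_closure ⟨k, hlt, hk2, rfl⟩)

/-- Lifts satisfying the definitions. -/
theorem exists_lifts (σ : Γ →* G) (hσ : Function.Surjective σ) (u : ℕ → G)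
    (hrel : ∀ i < D.n, ∀ j ≤ i, u i * u j = evW u (D.R i j)) :
    ∀ L, D.defsOk L = true → ∃ l : ℕ → Γ, (∀ i, σ (l i) = u i) ∧
      ∀ t ∈ L, l t.2.1 * l t.2.2 = evW l (D.R t.2.1 t.2.2)
  | [], _ => ⟨fun i => (hσ (u i)).choose, fun i => (hσ (u i)).choose_spec, fun _ h => absurd h (by simp)⟩
  | (k, i, j) :: r, h => by
    simp only [Tbl.defsOk, Bool.and_eq_true, decide_eq_true_eq, List.all_eq_true] at h
    obtain ⟨⟨⟨hji, hin, hR, hk⟩, hr⟩, hrest⟩ := h
    obtain ⟨l, hl, hd⟩ := exists_lifts σ hσ u hrel r hrest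
    set pre := (D.R i j).dropLast
    have hσl : ∀ w, σ (evW l w) = evW u w := fun w => by
      rw [map_evW, show σ ∘ l = u from funext hl]
    set l' := Function.update l k ((evW l pre)⁻¹ * (l i * l j)) with hl'
    have hk' : ∀ w : List ℕ, k ∉ w → evW l' w = evW l w := fun w hw =>
      evW_congr fun x hx => Function.update_of_ne (fun e : x = k => hw (e ▸ hx)) _ _
    have hne : ∀ x, x ≠ k → l' x = l x := fun x hx => Function.update_of_ne hx _ _
    simp only [List.mem_cons, not_or] at hk
    refine ⟨l', fun x => ?_, ?_⟩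
    · by_cases e : x = k
      · subst e
        have h1 := hrel i hin j hji
        rw [hR, evW_append, evW_cons, evW_nil, mul_one] at h1
        rw [hl', Function.update_self, map_mul, map_inv, map_mul, hσl, hl, hl, h1, inv_mul_cancel_left]
      · rw [hne x e, hl]
    · intro t ht
      rcases List.mem_cons.1 ht with rfl | ht
      · show l' i * l' j = evW l' (D.R i j)
        rw [hR, evW_append, hk' _ hk.2.2, evW_cons, evW_nil, mul_one, hl',
          Function.update_self, mul_inv_cancel_left, ← hl', hne i (Ne.symm hk.1), hne j (Ne.symm hk.2.1)]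
      · have h1 := hr t ht
        simp only [List.mem_cons, not_or] at h1
        rw [hne _ (Ne.symm h1.1), hne _ (Ne.symm h1.2.1), hk' _ h1.2.2]
        exact hd t ht

theorem inf_commutator_eq_bot [Finite Γ] (σ : Γ →* G) (hσ : Function.Surjective σ)
    (hc : σ.ker ≤ Subgroup.center Γ) (hexp : ∀ z ∈ σ.ker, z * z = 1) (hok : D.ok = true)
    (u h : ℕ → G) (hrel : ∀ i < D.n, ∀ j ≤ i, u i * u j = evW u (D.R i j))
    (hconj : ∀ v < D.sl.length, h (D.S v).1 * evW u (D.S v).2.1 = evW u (D.S v).2.2 * h (D.S v).1)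
    (hcard : 2 ^ D.n ≤ Nat.card (tail D u 0)) :
    σ.ker ⊓ ⁅(tail D u 0).comap σ, (tail D u 0).comap σ⁆ = ⊥ := by
  classical
  have hok' := hok
  simp only [Tbl.ok, Bool.and_eq_true, List.all_eq_true, List.mem_range, decide_eq_true_eq] at hok'
  obtain ⟨⟨⟨hsh, hdef⟩, hmask⟩, hcert⟩ := hok'
  obtain ⟨l, hl, hld⟩ := exists_lifts D σ hσ u hrel D.defs hdef
  have hσl : ∀ w, σ (evW l w) = evW u w := fun w => by rw [map_evW, show σ ∘ l = u from funext hl]
  let t : ℕ → Γ := fun c => (hσ (h c)).choose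
  have ht : ∀ c, σ (t c) = h c := fun c => (hσ (h c)).choose_spec
  -- the signs
  let a : ℕ → Γ := fun v =>
    if v < tri D.n then
      let p := D.pairs.getD v (0, 0)
      if p.1 < D.n ∧ p.2 ≤ p.1 then (evW l (D.R p.1 p.2))⁻¹ * (l p.1 * l p.2) else 1
    else if v - tri D.n < D.sl.length then
      (evW l (D.S (v - tri D.n)).2.2)⁻¹ *
        (t (D.S (v - tri D.n)).1 * evW l (D.S (v - tri D.n)).2.1 * (t (D.S (v - tri D.n)).1)⁻¹)
    else 1
  have hker : ∀ v, a v ∈ σ.ker := fun v => by
    simp only [MonoidHom.mem_ker, a]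
    split_ifs with h1 h2 h3
    · rw [map_mul, map_inv, map_mul, hσl, hl, hl, hrel _ h2.1 _ h2.2, inv_mul_cancel]
    · exact map_one σ
    · rw [map_mul, map_inv, map_mul, map_mul, map_inv, hσl, hσl, ht, hconj _ h3, mul_inv_cancel_right,
        inv_mul_cancel]
    · exact map_one σ
  have hcen : ∀ v, a v ∈ Subgroup.center Γ := fun v => hc (hker v)
  have hsq : ∀ v, a v * a v = 1 := fun v => hexp _ (hker v)
  set E := evM a D.M with hE
  have hEc : ∀ m g, g * E m = E m * g := fun m g => evM_comm a hcen D.M m g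
  have hEx : ∀ x y, E (x ^^^ y) = E x * E y := evM_xor a hcen hsq D.M
  have hvar : ∀ i < D.n, ∀ j ≤ i, l i * l j = evW l (D.R i j) * E (2 ^ (tri i + j)) := by
    intro i hi j hj
    obtain ⟨⟨h1, h2⟩, -⟩ := hsh i hi j (by omega)
    rw [hE, evM_two_pow, if_pos (by rw [Tbl.M]; omega)]
    simp only [a]
    rw [if_pos h1, h2, if_pos ⟨hi, hj⟩, mul_inv_cancel_left]
  have hstep : ∀ w p, D.step w = some p → evW l w = evW l p.1 * E p.2 := by
    intro w
    induction w with
    | nil => simp [Tbl.step]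
    | cons i w ih =>
      cases w with
      | nil => simp [Tbl.step]
      | cons j r =>
        intro p hp
        rw [Tbl.step] at hp
        split_ifs at hp with hc'
        · simp only [decide_eq_true_eq] at hc'
          obtain rfl := Option.some.inj hp
          rw [evW_cons, evW_cons, evW_append, ← mul_assoc, hvar i hc'.2 j hc'.1, mul_assoc, ← hEc, mul_assoc]
        · obtain ⟨q, hq, rfl⟩ := Option.map_eq_some_iff.1 hp
          rw [evW_cons, ih q hq, evW_cons, mul_assoc]
  have hcol : ∀ f w m, evW l w * E m = evW l (D.collect f (w, m)).1 * E (D.collect f (w, m)).2 := by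
    intro f
    induction f with
    | zero => intro w m; rfl
    | succ f ih =>
      intro w m
      rw [Tbl.collect]
      cases hs : D.step w with
      | none => rfl
      | some q =>
        simp only
        rw [← ih, hEx, hstep w q hs, mul_assoc, ← hEc m (E q.2)]
  have hcol0 : ∀ w, evW l w = evW l (D.collect 80 (w, 0)).1 * E (D.collect 80 (w, 0)).2 := fun w => by
    rw [← hcol, hE, evM_zero, mul_one]
  -- every equation holds
  have hassoc : ∀ x, E (D.assocM x) = 1 := by
    rintro ⟨i, j, k⟩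
    unfold Tbl.assocM
    split_ifs with h1 h2
    · simp only [decide_eq_true_eq] at h1 h2
      obtain ⟨hji, hin, hkj⟩ := h1
      refine evM_xor_eq_one a hcen hsq ?_
      have e1 := hcol 80 (D.R i j ++ [k]) (2 ^ (tri i + j))
      have e2 := hcol 80 (i :: D.R j k) (2 ^ (tri j + k))
      rw [evW_append, mul_assoc, hEc, ← mul_assoc, ← hvar i hin j hji, evW_cons, evW_nil, mul_one] at e1
      rw [evW_cons, mul_assoc, ← hvar j (by omega) k hkj, ← mul_assoc, e1, h2] at e2
      exact mul_left_cancel e2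
    · exact evM_zero a _
    · exact evM_zero a _
  have hs1 : ∀ x < D.sl.length, t (D.S x).1 * evW l (D.S x).2.1 * (t (D.S x).1)⁻¹ =
      evW l (D.S x).2.2 * E (2 ^ (tri D.n + x)) := fun x hx => by
    rw [hE, evM_two_pow, if_pos (by rw [Tbl.M]; omega)]
    simp only [a]
    rw [if_neg (by omega), Nat.add_sub_cancel_left, if_pos hx, mul_inv_cancel_left]
  have hconjA : ∀ (A : List ℕ) (c : ℕ), (∀ x ∈ A, x < D.sl.length ∧ (D.S x).1 = c) →
      t c * evW l (D.qW A) * (t c)⁻¹ = evW l (D.fW A) * E (D.sMask A) := by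
    intro A c hA
    induction A with
    | nil => simp [Tbl.qW, Tbl.fW, Tbl.sMask, evW, hE, evM_zero]
    | cons x A ih =>
      obtain ⟨hx, rfl⟩ := hA x (List.mem_cons_self ..)
      simp only [Tbl.qW, Tbl.fW, List.flatMap_cons, evW_append]
      rw [show Tbl.sMask D (x :: A) = 2 ^ (tri D.n + x) ^^^ Tbl.sMask D A from rfl, hEx,
        show t (D.S x).1 * (evW l (D.S x).2.1 * evW l (A.flatMap fun y => (D.S y).2.1)) * (t (D.S x).1)⁻¹ =
          (t (D.S x).1 * evW l (D.S x).2.1 * (t (D.S x).1)⁻¹) *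
          (t (D.S x).1 * evW l (D.qW A) * (t (D.S x).1)⁻¹) by rw [Tbl.qW]; group,
        hs1 x hx, ih fun y hy => hA y (List.mem_cons_of_mem _ hy), Tbl.fW]
      set F := evW l (A.flatMap fun y => (D.S y).2.2)
      rw [mul_assoc, ← mul_assoc (E _) F, ← hEc, mul_assoc, mul_assoc]
  have hinv : ∀ x, E (D.invM x) = 1 := by
    rintro ⟨A, B⟩
    unfold Tbl.invM
    dsimp only
    split_ifs with h1 h2
    · simp only [List.all_eq_true, Bool.and_eq_true, decide_eq_true_eq, List.mem_append] at h1
      simp only [decide_eq_true_eq] at h2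
      obtain ⟨hq, hf⟩ := h2
      set c := (D.S ((A ++ B).headD 0)).1
      refine evM_xor_eq_one a hcen hsq ?_
      have eA := hconjA A c fun x hx => h1 x (Or.inl hx)
      have eB := hconjA B c fun x hx => h1 x (Or.inr hx)
      rw [hcol0 (D.qW A), hcol0 (D.fW A), hq, hf] at eA
      rw [hcol0 (D.qW B), hcol0 (D.fW B)] at eB
      set q := evW l (D.collect 80 (D.qW B, 0)).1
      set f := evW l (D.collect 80 (D.fW B, 0)).1
      have mv : ∀ m, t c * (q * E m) * (t c)⁻¹ = t c * q * (t c)⁻¹ * E m := fun m => by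
        rw [← mul_assoc (t c) q, mul_assoc (t c * q) (E m), ← hEc, ← mul_assoc]
      rw [mv, mul_assoc f, ← hEx] at eA eB
      set mA := (D.collect 80 (D.qW A, 0)).2
      set mB := (D.collect 80 (D.qW B, 0)).2
      set kA := (D.collect 80 (D.fW A, 0)).2 ^^^ D.sMask A
      set kB := (D.collect 80 (D.fW B, 0)).2 ^^^ D.sMask B
      set X := t c * q * (t c)⁻¹
      have e : E (mA ^^^ mB) = E (kA ^^^ kB) := by
        have hi : ∀ m, E m * E m = 1 := fun m => by rw [← hEx, Nat.xor_self, hE, evM_zero]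
        have eX : X = f * E kB * E mB := by rw [← eB, mul_assoc, hi, mul_one]
        rw [eX, mul_assoc f, mul_assoc f] at eA
        have e3 := mul_left_cancel eA
        rw [hEx, hEx, hEc mB (E mA), ← e3,
          show E kB * E mB * E mA * E kB = E kB * (E mB * E mA) * E kB by simp only [mul_assoc],
          mul_assoc (E kB), hEc kB (E mB * E mA), ← mul_assoc (E kB) (E kB), hi, one_mul]
      exact e
    · exact evM_zero a _
    · exact evM_zero a _
  have hdefM : ∀ x ∈ D.defs, E (Tbl.defM x) = 1 := by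
    intro x hx
    have hb : ∀ L, D.defsOk L = true → x ∈ L → x.2.2 ≤ x.2.1 ∧ x.2.1 < D.n := by
      intro L
      induction L with
      | nil => simp
      | cons y L ih =>
        obtain ⟨k, i, j⟩ := y
        intro h hmem
        simp only [Tbl.defsOk, Bool.and_eq_true, decide_eq_true_eq] at h
        rcases List.mem_cons.1 hmem with rfl | hmem
        · exact ⟨h.1.1.1, h.1.1.2.1⟩
        · exact ih h.2 hmem
    obtain ⟨hj, hi⟩ := hb _ hdef hx
    exact mul_eq_left.1 ((hvar _ hi _ hj).symm.trans (hld x hx))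
  have hall : ∀ m ∈ D.eqv, E m = 1 := by
    rw [← hmask]
    intro m hm
    simp only [Tbl.masks, List.mem_append, List.mem_map] at hm
    rcases hm with (⟨x, hx, rfl⟩ | ⟨x, -, rfl⟩) | ⟨x, -, rfl⟩
    · exact hdefM x hx
    · exact hassoc x
    · exact hinv x
  have hrel' : ∀ i < D.n, ∀ j ≤ i, l i * l j = evW l (D.R i j) := fun i hi j hj => by
    rw [hvar i hi j hj, ← hcert _ (hsh i hi j (by omega)).1.1, hE,
      evM_comb a hcen hsq _ _ _ hall, mul_one]
  -- the lifted group meets the kernel trivially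
  set W := tail D l 0
  have hWle : Nat.card W ≤ 2 ^ D.n := by
    have h := card_tail_le D l hok hrel' D.n
    rwa [Nat.sub_self] at h
  have hmap : W.map σ = tail D u 0 := by
    refine (MonoidHom.map_closure σ _).trans (congrArg Subgroup.closure (Set.ext fun x => ?_))
    constructor
    · rintro ⟨_, ⟨k, h1, h2, rfl⟩, rfl⟩
      exact ⟨k, h1, h2, (hl k).symm⟩
    · rintro ⟨k, h1, h2, rfl⟩
      exact ⟨l k, ⟨k, h1, h2, rfl⟩, hl k⟩
  have hinj : ∀ w ∈ W, σ w = 1 → w = 1 := by
    have hsur : Function.Surjective (fun w : W => (⟨σ w, hmap ▸ Subgroup.mem_map_of_mem σ w.2⟩ :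
        tail D u 0)) := by
      rintro ⟨x, hx⟩
      rw [← hmap] at hx
      obtain ⟨w, hw, rfl⟩ := hx
      exact ⟨⟨w, hw⟩, rfl⟩
    have hb := (Nat.bijective_iff_surjective_and_card _).2
      ⟨hsur, le_antisymm (hWle.trans hcard) (Nat.card_le_card_of_surjective _ hsur)⟩
    intro w hw h1
    exact congrArg Subtype.val (hb.1 (a₁ := ⟨w, hw⟩) (a₂ := 1) (Subtype.ext (by simp [h1])))
  have hdec : ∀ x ∈ (tail D u 0).comap σ, ∃ w ∈ W, ∃ z ∈ Subgroup.center Γ, x = w * z := by
    intro x hx
    rw [Subgroup.mem_comap, ← hmap] at hx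
    obtain ⟨w, hw, e⟩ := hx
    exact ⟨w, hw, w⁻¹ * x, hc (by rw [MonoidHom.mem_ker, map_mul, map_inv, e, inv_mul_cancel]), by group⟩
  have hle : ⁅(tail D u 0).comap σ, (tail D u 0).comap σ⁆ ≤ W := by
    rw [Subgroup.commutator_le]
    intro x hx y hy
    obtain ⟨w, hw, z, hz, rfl⟩ := hdec x hx
    obtain ⟨w', hw', z', hz', rfl⟩ := hdec y hy
    have e : ∀ g, g * z = z * g := Subgroup.mem_center_iff.1 hz
    have e' : ∀ g, g * z' = z' * g := Subgroup.mem_center_iff.1 hz'
    have hxy : ⁅w * z, w' * z'⁆ = ⁅w, w'⁆ := by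
      rw [commutatorElement_def, commutatorElement_def, mul_inv_rev, mul_inv_rev,
        show w * z * (w' * z') * (z⁻¹ * w⁻¹) * (z'⁻¹ * w'⁻¹) =
          w * (z * (w' * z') * z⁻¹) * w⁻¹ * (z'⁻¹ * w'⁻¹) by group,
        ← e (w' * z'), mul_inv_cancel_right,
        show w * (w' * z') * w⁻¹ * (z'⁻¹ * w'⁻¹) = w * w' * (z' * w⁻¹ * z'⁻¹) * w'⁻¹ by group,
        ← e' w⁻¹, mul_inv_cancel_right]
    rw [hxy, commutatorElement_def]
    exact mul_mem (mul_mem (mul_mem hw hw') (inv_mem hw)) (inv_mem hw')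
  rw [eq_bot_iff]
  rintro z ⟨hz, hz'⟩
  exact Subgroup.mem_bot.2 (hinj z (hle hz') hz)

end Cfsg.Agent.ChevGroup.PcLift
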