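import Cfsg.Agent.ChevGroup.Tits.TitsData
import Cfsg.Agent.ChevGroup.Tits.PcLift

/-!
Tables for the Schur multiplier of the Tits group: a power-commutator presentation of a Sylow 2-subgroup,
the conjugations by the two letters, and words for elements at the odd primes.
-/

set_option autoImplicit false
set_option maxRecDepth 4000

namespace Cfsg.Agent.ChevGroup.TitsMult

open Cfsg.Agent.Twisted Twisted.TypeF4

/-- Blocks of the generators. -/
def pcL : List (List (ℕ × List (Fin MT.tab.n))) :=
  [[(7, [33, 24])],
   [(0, [27, 25, 28]), (4, [27, 25, 28])],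
   [(1, [33, 24]), (3, [33, 24]), (4, [27, 25, 30]), (6, [27, 25, 30])],
   [(0, [28, 30]), (4, [28, 30])],
   [(3, [33, 24]), (4, [28, 30]), (5, [33, 24]), (6, [28, 30])],
   [(1, [33, 24]), (2, [27, 25, 28]), (4, [27, 25, 28]), (5, [33, 24])],
   [(1, [33, 24]), (3, [33, 24]), (4, [28, 30])],
   [(2, [28, 30]), (3, [33, 24]), (5, [33, 24])],
   [(3, [33, 24]), (4, [28, 30])],
   [(2, [28, 30])],
   [(4, [28, 30])]]

/-- The tables. -/
def tbl : PcLift.Tbl where
  n := 11
  rhs :=
    [[],
     [0, 1, 2],
     [3],
     [0, 2, 4],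
     [1, 2, 5],
     [4],
     [0, 3, 4, 5, 7, 8],
     [1, 3],
     [2, 3, 6],
     [],
     [0, 4],
     [1, 4, 7],
     [2, 4],
     [3, 4, 8],
     [],
     [0, 5, 8, 10],
     [1, 5, 6, 8, 10],
     [2, 5, 7, 8],
     [3, 5, 9],
     [4, 5],
     [8, 10],
     [0, 6, 7, 9],
     [1, 6],
     [2, 6, 8],
     [3, 6],
     [4, 6, 10],
     [5, 6, 9],
     [],
     [0, 7, 10],
     [1, 7, 8],
     [2, 7, 10],
     [3, 7, 9],
     [4, 7],
     [5, 7, 10],
     [6, 7],
     [],
     [0, 8],
     [1, 8, 9],
     [2, 8, 10],
     [3, 8],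
     [4, 8],
     [5, 8],
     [6, 8],
     [7, 8],
     [],
     [0, 9, 10],
     [1, 9],
     [2, 9],
     [3, 9],
     [4, 9],
     [5, 9],
     [6, 9],
     [7, 9],
     [8, 9],
     [],
     [0, 10],
     [1, 10],
     [2, 10],
     [3, 10],
     [4, 10],
     [5, 10],
     [6, 10],
     [7, 10],
     [8, 10],
     [9, 10],
     []]
  pairs :=
    [(0, 0), (1, 0), (1, 1), (2, 0), (2, 1), (2, 2), (3, 0), (3, 1), (3, 2), (3, 3), (4, 0), (4, 1), (4, 2), (4, 3), (4, 4), (5, 0), (5, 1), (5, 2), (5, 3), (5, 4), (5, 5), (6, 0), (6, 1), (6, 2), (6, 3), (6, 4), (6, 5), (6, 6), (7, 0), (7, 1), (7, 2), (7, 3), (7, 4), (7, 5), (7, 6), (7, 7), (8, 0), (8, 1), (8, 2), (8, 3), (8, 4), (8, 5), (8, 6), (8, 7), (8, 8), (9, 0), (9, 1), (9, 2), (9, 3), (9, 4), (9, 5), (9, 6), (9, 7), (9, 8), (9, 9), (10, 0), (10, 1), (10, 2), (10, 3), (10, 4), (10, 5), (10, 6), (10, 7), (10, 8), (10, 9), (10, 10)]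
  defs :=
    [(10, 6, 4), (9, 5, 3), (8, 4, 3), (7, 4, 1), (6, 3, 2), (5, 2, 1), (4, 2, 0), (3, 1, 1), (2, 1, 0)]
  sl :=
    [(0, [1], [2, 4, 5, 7, 8, 9]),
     (0, [2], [1, 3, 5, 8, 9, 10]),
     (0, [3], [4, 7, 10]),
     (0, [4], [3, 6, 9]),
     (0, [5], [5, 8, 9]),
     (0, [6], [7]),
     (0, [7], [6]),
     (0, [8], [8, 9, 10]),
     (0, [9], [10]),
     (0, [10], [9]),
     (1, [0], [6, 8]),
     (1, [2], [0, 5, 6, 10]),
     (1, [4], [7, 10]),
     (1, [5], [0, 2, 4, 6, 8]),
     (1, [6], [0, 7, 8, 9]),
     (1, [7], [4, 10]),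
     (1, [8], [7, 8, 9]),
     (1, [9], [4, 7, 9, 10]),
     (1, [10], [10])]
  assoc :=
    [(1, 0, 0), (1, 1, 0), (1, 1, 1), (2, 0, 0), (2, 1, 0), (2, 1, 1), (2, 2, 0), (2, 2, 1), (3, 0, 0), (3, 1, 0), (3, 2, 0), (3, 2, 1), (3, 2, 2), (3, 3, 0), (3, 3, 2), (4, 1, 0), (4, 1, 1), (4, 2, 1), (4, 3, 0), (4, 3, 1), (4, 3, 2), (4, 3, 3), (4, 4, 1), (4, 4, 3), (5, 0, 0), (5, 1, 0), (5, 1, 1), (5, 2, 0), (5, 2, 1), (5, 2, 2), (5, 3, 0), (5, 3, 1), (5, 3, 2), (5, 3, 3), (5, 4, 0), (5, 4, 1), (5, 4, 2), (5, 4, 3), (5, 5, 0), (5, 5, 2), (5, 5, 3), (6, 0, 0), (6, 1, 0), (6, 1, 1), (6, 2, 0), (6, 2, 1), (6, 2, 2), (6, 3, 0), (6, 3, 2), (6, 4, 0), (6, 4, 2), (6, 4, 3), (6, 5, 2)]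
  inv :=
    [([2, 2], []), ([4, 3], [3, 4]), ([10, 10], []), ([11, 10], [10, 11, 12]), ([11, 11], [12])]
  eqv :=
    [33554432, 262144, 8192, 2048, 256, 16, 8, 4, 2, 16424, 33950737365082224, 128, 17408, 8831527196672, 46136018075011580160, 21504, 41505202761739929600, 3414769058816, 5798538907914279168, 29400064909164294144, 2251799885250560, 17592328658944, 41527703758249418752, 150994944, 1342181376, 34896617472, 38046409661690150912, 11068131246080, 8935679459328, 46116864857231851520, 18141941858304, 38654705664, 18691697672192, 46152906642198364160, 7034789967069052928, 66941526989045235712, 4755810350757576704, 69332932095230607360, 46116886882864857088, 52752396923573895168, 18746304367446458368, 9152903939883008, 18295873486192640, 576461851815051264, 2882313682925125632, 1103806595072, 9572348231417856, 47305830345828466688, 4755830111633145856, 307371224323850240, 55362785438265769984, 46117097955282386944, 16777216, 51314727811427598336, 9009535784058880, 17867097505792, 42685411969646723072, 4947802324992, 23095021843404292096, 9367488324442259456,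 9511606811052998656, 4659747458383872, 42081634956804637184, 10419522008514560, 21990366773249, 302286818795298547040264, 302231523603368794685473]
  cert :=
    [18595362862494908416,
     256,
     128,
     64,
     32,
     130282884427318669376,
     11879704045912430188,
     2048,
     16,
     136022122573223014912,
     130282884427318665728,
     8,
     36864,
     4,
     130282884427318669824,
     139364044803661484549,
     139765918702948327957,
     139219929340170822156,
     2,
     1994760232724307968,
     139364326205623878149,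
     131869271372759716362,
     12356552675575439360,
     580999886353440772,
     4503599627370496,
     1,
     12859084203435753474,
     4503599635759104,
     1301155246992035841,
     576461095934599172,
     1301155247008776193,
     10575476755752062978,
     576461098048528384,
     1274500952079503361,
     1533771845383958528,
     576461095901044736,
     1127666625148039168,
     10476439340090167298,
     612525083734548481,
     576496287789326336,
     576496282420617216,
     2281327608192512000,
     720611475865182208,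
     261329729699708928,
     576496286715584512,
     2497670277335732225,
     1781008514508390400,
     793062359521296384,
     4410159409710055424,
     2546555658801549312,
     3031461364521320448,
     1805925597178994688,
     2900355894804193280,
     4395383211635220480,
     4410163807756566528,
     371096726913716224,
     1711083673688772608,
     371484029935132672,
     2244981469552549888,
     576505078513639424,
     2281186862114222080,
     524269691963940864,
     457476361396224,
     371519006001070080,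
     3058199383714562048,
     551662990559019008]

/-- The conjugates of the generators by the odd element. -/
def gamConj : List (List ℕ) :=
  [[0, 2, 4, 5, 6, 9],
   [1],
   [2, 5, 6, 7, 10],
   [3],
   [4, 7, 8, 9],
   [5, 6, 9],
   [6, 9],
   [7, 8, 9],
   [8, 9],
   [9],
   [10]]

/-- The square of the odd element. -/
def gamSq : List ℕ := [3, 10]

/-- The blocks in the generators and the odd element. -/
def blkRows : List (List (Fin MT.tab.n) × List ℕ × Bool) :=
  [([28, 30], [3, 10], false),
   ([27, 25, 28], [], true),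
   ([27, 25, 30], [3, 10], true),
   ([37, 32], [6, 8], false),
   ([40, 46], [9], false),
   ([35, 31, 40], [1, 3, 5, 7], true),
   ([35, 31, 46], [1, 3, 5, 7, 9], true),
   ([39, 45], [8, 10], false),
   ([44, 47], [10], false),
   ([29, 41, 44], [1, 3, 10], true),
   ([29, 41, 47], [1, 3], true),
   ([38, 43], [7, 8, 9, 10], false),
   ([36, 42], [4, 7, 9, 10], false),
   ([34, 26, 36], [1, 2, 3, 4, 5, 6, 7, 8, 10], true),
   ([34, 26, 42], [1, 2, 3, 5, 6, 7, 8, 9, 10], true),
   ([33, 24], [0], false)]

/-- Blocks of the even letters used in the words for odd primes. -/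
def letL : List (List (ℕ × List (Fin MT.tab.n))) :=
  [[(7, [33, 24])],
   [(0, [28, 30])],
   [(0, [27, 25, 28]), (4, [27, 25, 28])],
   [(0, [27, 25, 30]), (4, [27, 25, 30])]]

/-- An element of order 13. -/
def wD : List ℕ := [1, 3, 4]

/-- Generators of a group of order 25. -/
def wA : List ℕ := [1, 4]

/-- Generators of a group of order 25. -/
def wB : List ℕ := [1, 2, 2, 3, 4, 3, 4, 3, 4, 3]

/-- An element inverting the first and fixing the second. -/
def wN : List ℕ := [1]

/-- Generators of a group of order 27. -/
def wX : List ℕ := [1, 0, 1, 4, 3, 1, 4, 2, 3, 4, 3, 0, 2, 4]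

/-- Generators of a group of order 27. -/
def wY : List ℕ := [4, 3, 4, 0, 3, 4, 3, 4]

/-- An involution fixing the second generator. -/
def wH1 : List ℕ := [0]

/-- An involution fixing the first generator. -/
def wH2 : List ℕ := [0, 3, 1, 0, 1, 0, 1, 0, 2, 2]

/-- The commutator of the generators of the group of order 27. -/
def wC : List ℕ := [0, 3]

end Cfsg.Agent.ChevGroup.TitsMult
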