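import Cfsg.Agent.ChevGroup.Tits.Checks

/-!
The finite checks behind the root involution of the Tits group and the subgroup of extraspecial type.
-/

set_option autoImplicit false
set_option maxRecDepth 4000

namespace Cfsg.Agent.ChevGroup.TitsIdx

open Cfsg.Lie ChevCore Twisted Twisted.TypeF4 Twisted.Tits

/-- The prefix of the longest word. -/
def preW (j : ℕ) : List (Fin 2) := W0.take j

/-- A block in a position. -/
def blkW (p : ℕ × List (Fin MT.tab.n)) : List (Fin MT.tab.n) := p.2.map (pW (preW p.1))

/-- A block is admissible. -/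
noncomputable def blkB (p : ℕ × List (Fin MT.tab.n)) : Bool :=
  (List.finRange 2).any (fun k => (xw k).any fun a => decide (a.2 = p.2)) &&
    (blkW p).all fun r => decide ((MT.S).pos r)

/-- Products of blocks. -/
def blksW (L : List (ℕ × List (Fin MT.tab.n))) : List (Fin MT.tab.n) := L.flatMap blkW

/-- The five generators of the elementary subgroup; the first is the root involution. -/
def aL (i : Fin 5) : List (ℕ × List (Fin MT.tab.n)) :=
  [(([4, 2, 6, 3, 5] : List ℕ).getD i.val 0,
    ([[28, 30], [28, 30], [28, 30], [33, 24], [33, 24]] : List (List (Fin MT.tab.n))).getD i.val [])]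

/-- The dual elements. -/
def qL (i : Fin 4) : List (ℕ × List (Fin MT.tab.n)) :=
  ([[(7, [33, 24])], [(1, [33, 24])], [(4, [27, 25, 28]), (6, [27, 25, 28])],
    [(2, [27, 25, 28]), (4, [27, 25, 28])]] : List (List (ℕ × List (Fin MT.tab.n)))).getD i.val []

theorem aL_ok : ∀ i : Fin 5, ((aL i).all blkB && okList ((blksW (aL i)).map Fin.val) false) = true := by
  decide +kernel

theorem qL_ok : ∀ i : Fin 4, ((qL i).all blkB && okList ((blksW (qL i)).map Fin.val) false) = true := by
  decide +kernel

/-- An equality of words. -/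
noncomputable def eqB (a b : List (Fin MT.tab.n)) : Bool :=
  ChevIsogeny.wordEqB chevF4 (ChevCore.fast chevF4 ChevCore.packedF4) 2
    (a.map fun r => (r.val, (1 : ℤ))) (b.map fun r => (r.val, (1 : ℤ)))

theorem relA : ((List.finRange 5).all fun i => eqB (blksW (aL i) ++ blksW (aL i)) [] &&
    (List.finRange 5).all fun j => eqB (blksW (aL i) ++ blksW (aL j)) (blksW (aL j) ++ blksW (aL i))) = true := by
  decide +kernel

theorem relQ : ((List.finRange 4).all fun i => (List.finRange 5).all fun j =>
    eqB (blksW (qL i) ++ blksW (aL j))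
      ((if j = Fin.succ i then blksW (aL 0) else []) ++ blksW (aL j) ++ blksW (qL i))) = true := by
  decide +kernel

/-- The word of a combination. -/
def combW (b : Fin 5 → ZMod 2) : List (Fin MT.tab.n) :=
  (List.ofFn fun i => if b i = 0 then [] else blksW (aL i)).flatten

theorem combW_ok : ∀ b : Fin 5 → ZMod 2, (decide (b = 0) || (List.range 52).any fun c =>
    !Nat.beq (appW ((combW b).map Fin.val) (2 ^ c)) (2 ^ c) &&
      Nat.blt (appW ((combW b).map Fin.val) (2 ^ c)) (2 ^ 52)) = true := by
  decide +kernel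

/-- The word of the representative of a letter. -/
def nkV (k : Fin 2) : List (Fin MT.tab.n) :=
  if k = 0 then [24, 33, 23, 14, 24, 33] else [28, 30, 19, 17, 28, 30, 19, 17, 28, 30]

/-- Commuting with all blocks of the positive part. -/
noncomputable def commB : List (Fin 2) → RMap → Bool
  | [], _ => true
  | k :: W, P => (xw k).all (fun a => eqB (blksW (aL 0) ++ a.2.map P) (a.2.map P ++ blksW (aL 0))) &&
      commB W (fun r => P (pfl k r))

theorem commB_true : (commB W1 id && eqB (blksW (aL 0) ++ nkV 1) (nkV 1 ++ blksW (aL 0)) &&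
    eqB (nkV 0 ++ blksW (aL 0) ++ nkV 0) (blksW (aL 1))) = true := by
  decide +kernel

/-- The odd element. -/
def gamW : List (Fin MT.tab.n) := [27, 25, 28]

theorem gamma_ok : (eqB (gamW ++ [28, 25, 27]) [] &&
    eqB (gamW ++ nkV 0 ++ [28, 25, 27]) (gamW ++ [36, 26, 34] ++ nkV 0) &&
    eqB (gamW ++ nkV 1 ++ [28, 25, 27]) ([28, 30] ++ nkV 1 ++ [28, 30] ++ nkV 1 ++ [28, 30]) &&
    okList ((gamW).map Fin.val) true && okList ((gamW ++ [36, 26, 34]).map Fin.val) false &&
    okList (([28, 30] : List (Fin MT.tab.n)).map Fin.val) false &&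
    decide (([36, 26, 34] : List (Fin MT.tab.n)) = ([28, 25, 27] : List (Fin MT.tab.n)).map (pfl 0)) &&
    decide (∀ r ∈ gamW ++ ([36, 26, 34] : List (Fin MT.tab.n)) ++ [28, 30], (MT.S).pos r)) = true := by
  decide +kernel

end Cfsg.Agent.ChevGroup.TitsIdx
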