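import Mathlib

/-!
A criterion excluding faithful two-transitive actions: a root involution of the centre of a large group of
extraspecial type moves at least 32 points in every orbit.
-/

set_option autoImplicit false

namespace Cfsg.Agent.ChevGroup.TitsIdx

open MulAction

variable {G : Type*} [Group G] [Finite G]

/-- A subgroup avoiding the centre is small. -/
theorem card_avoid (A Q : Subgroup G) (x : G) (hx1 : x ≠ 1) (hx2 : x * x = 1) (hxA : x ∈ A) (hAQ : A ≤ Q)
    (hA : Nat.card A = 32) (hab : ∀ a ∈ A, ∀ b ∈ A, a * b = b * a)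
    (hc : ∀ q ∈ Q, ∀ a ∈ A, q * a * q⁻¹ = a ∨ q * a * q⁻¹ = x * a)
    (hn : ∀ a ∈ A, a ≠ 1 → a ≠ x → ∃ q ∈ Q, q * a * q⁻¹ = x * a)
    (K : Subgroup G) (hKQ : K ≤ Q) (hK : x ∉ K) : 32 * Nat.card K ≤ Nat.card Q := by
  classical
  haveI := Fintype.ofFinite G
  set X := A ⊓ K
  set C := Q ⊓ Subgroup.centralizer (X : Set G)
  have hCmem : ∀ q, q ∈ C ↔ q ∈ Q ∧ ∀ v ∈ X, q * v * q⁻¹ = v := fun q => by
    rw [Subgroup.mem_inf, Subgroup.mem_centralizer_iff]
    refine and_congr_right fun _ => ⟨fun h v hv => ?_, fun h v hv => ?_⟩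
    · rw [← h v hv, mul_inv_cancel_right]
    · conv_lhs => rw [← h v hv]
      rw [inv_mul_cancel_right]
  have hKC : K ≤ C := fun k hk => (hCmem k).2 ⟨hKQ hk, fun v hv => by
    rcases hc k (hKQ hk) v (Subgroup.mem_inf.1 hv).1 with h | h
    · exact h
    · refine absurd ?_ hK
      have hv' := (Subgroup.mem_inf.1 hv).2
      have e : x = k * v * k⁻¹ * v⁻¹ := by rw [h, mul_inv_cancel_right]
      rw [e]
      exact mul_mem (mul_mem (mul_mem hk hv') (inv_mem hk)) (inv_mem hv')⟩
  have hAC : A ≤ C := fun a ha => (hCmem a).2 ⟨hAQ ha, fun v hv => by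
    rw [hab a ha v (Subgroup.mem_inf.1 hv).1, mul_inv_cancel_right]⟩
  have hKA : Nat.card K * Nat.card A ≤ Nat.card X * Nat.card C := by
    simp only [Nat.card_eq_fintype_card]
    have hf : ∀ p : K × A, (p.1 : G) * p.2 ∈ C := fun p => mul_mem (hKC p.1.2) (hAC p.2.2)
    have := Finset.card_le_mul_card_image (s := (Finset.univ : Finset (K × A)))
      (f := fun p => (⟨(p.1 : G) * p.2, hf p⟩ : C)) (Fintype.card X) (fun c _ => ?_)
    · rw [Finset.card_univ, Fintype.card_prod] at this
      exact this.trans ((Nat.mul_le_mul_left _ (Finset.card_le_univ _)).trans (le_of_eq rfl))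
    · rcases Finset.eq_empty_or_nonempty ((Finset.univ : Finset (K × A)).filter
        fun p => (⟨(p.1 : G) * p.2, hf p⟩ : C) = c) with he | ⟨⟨k0, a0⟩, h0⟩
      · rw [he]; simp
      · refine (Finset.card_le_card_of_injOn
          (fun p => if h : (k0 : G)⁻¹ * p.1 ∈ X then (⟨_, h⟩ : X) else 1)
          (fun _ _ => Finset.mem_coe.2 (Finset.mem_univ _)) ?_).trans (le_of_eq Finset.card_univ)
        intro p hp p' hp' e
        simp only [Finset.coe_filter, Finset.mem_univ, true_and, Set.mem_ofPred_eq] at hp hp'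
        have h00 : (k0 : G) * a0 = c := congrArg Subtype.val (Finset.mem_filter.1 h0).2
        have hmem : ∀ p : K × A, (⟨(p.1 : G) * p.2, hf p⟩ : C) = c → (k0 : G)⁻¹ * p.1 ∈ X := fun p hp => by
          have h1 : (p.1 : G) * p.2 = c := congrArg Subtype.val hp
          refine Subgroup.mem_inf.2 ⟨?_, mul_mem (inv_mem k0.2) p.1.2⟩
          have e1 : (k0 : G)⁻¹ * p.1 = a0 * (p.2 : G)⁻¹ := by
            rw [inv_mul_eq_iff_eq_mul, ← mul_assoc, h00, ← h1, mul_inv_cancel_right]
          rw [e1]
          exact mul_mem a0.2 (inv_mem p.2.2)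
        simp only [dif_pos (hmem p hp), dif_pos (hmem p' hp')] at e
        have e1 : (p.1 : G) = p'.1 := mul_left_cancel (congrArg Subtype.val e)
        have e2 : (p.2 : G) = p'.2 := by
          have h1 : (p.1 : G) * p.2 = p'.1 * p'.2 :=
            (congrArg Subtype.val hp).trans (congrArg Subtype.val hp').symm
          rw [e1] at h1
          exact mul_left_cancel h1
        exact Prod.ext (Subtype.ext e1) (Subtype.ext e2)
  have hCX : Nat.card C * Nat.card X = Nat.card Q := by
    set eps : G → G → ℤ := fun q v => if q * v * q⁻¹ = v then 1 else -1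
    have hcentral : ∀ q ∈ Q, q * x * q⁻¹ = x := fun q hq => by
      rcases hc q hq x hxA with h | h
      · exact h
      · exfalso
        rw [hx2, mul_inv_eq_one] at h
        exact hx1 (mul_eq_left.1 h)
    have hrow : ∀ v ∈ X, v ≠ 1 → ∑ q : Q, eps q v = 0 := by
      intro v hv hv1
      have hvA := (Subgroup.mem_inf.1 hv).1
      obtain ⟨q0, hq0, h0⟩ := hn v hvA hv1 fun e => hK (e ▸ (Subgroup.mem_inf.1 hv).2)
      have hne : x * v ≠ v := fun e => hx1 (mul_eq_right.1 e)
      have hflip : ∀ q : Q, eps (q0 * q) v = -eps q v := fun q => by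
        rcases hc q q.2 v hvA with h | h
        · have : q0 * (q : G) * v * (q0 * q)⁻¹ = x * v := by
            rw [show q0 * (q : G) * v * (q0 * q)⁻¹ = q0 * ((q : G) * v * (q : G)⁻¹) * q0⁻¹ by group, h, h0]
          simp only [eps]
          rw [if_pos h, if_neg (this ▸ hne)]
        · have h1 : (q : G) * v * (q : G)⁻¹ ≠ v := h ▸ hne
          have h2 : q0 * (q : G) * v * (q0 * q)⁻¹ = x * (x * v) := by
            rw [show q0 * (q : G) * v * (q0 * q)⁻¹ = q0 * ((q : G) * v * (q : G)⁻¹) * q0⁻¹ by group, h,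
              show q0 * (x * v) * q0⁻¹ = (q0 * x * q0⁻¹) * (q0 * v * q0⁻¹) by group, hcentral q0 hq0, h0]
          simp only [eps]
          rw [if_neg h1, neg_neg]
          rcases hc (q0 * q) (mul_mem hq0 q.2) v hvA with h3 | h3
          · rw [if_pos h3]
          · exfalso
            rw [h2] at h3
            exact hne (mul_left_cancel h3)
      have hs : ∑ q : Q, eps q v = ∑ q : Q, eps (q0 * q) v :=
        (Equiv.sum_comp (Equiv.mulLeft (⟨q0, hq0⟩ : Q)) (fun q : Q => eps q v)).symm
      simp only [hflip, Finset.sum_neg_distrib] at hs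
      omega
    have hcol : ∀ q : Q, ∑ v : X, eps q v = if (q : G) ∈ C then (Nat.card X : ℤ) else 0 := by
      intro q
      split_ifs with hq
      · rw [Nat.card_eq_fintype_card, Finset.sum_congr rfl
          (fun (v : X) _ => show eps q v = 1 from if_pos (((hCmem _).1 hq).2 v v.2)), Finset.sum_const,
          Finset.card_univ, nsmul_eq_mul, mul_one]
      · obtain ⟨v0, hv0, hne⟩ : ∃ v0 ∈ X, (q : G) * v0 * (q : G)⁻¹ ≠ v0 := by
          by_contra h
          push Not at h
          exact hq ((hCmem _).2 ⟨q.2, h⟩)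
        have h0 := (hc q q.2 v0 (Subgroup.mem_inf.1 hv0).1).resolve_left hne
        have hflip : ∀ v : X, eps q (v0 * v) = -eps q v := fun v => by
          have hvA := (Subgroup.mem_inf.1 v.2).1
          have hv0A := (Subgroup.mem_inf.1 hv0).1
          have e : (q : G) * (v0 * v) * (q : G)⁻¹ = x * v0 * ((q : G) * v * (q : G)⁻¹) := by
            rw [← h0]; group
          have hne2 : x * v0 ≠ v0 := fun e => hx1 (mul_eq_right.1 e)
          rcases hc q q.2 v hvA with h | h
          · simp only [eps]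
            rw [e, h, if_pos rfl, if_neg]
            intro e'
            exact hne2 (mul_right_cancel e')
          · have hne3 : (q : G) * v * (q : G)⁻¹ ≠ v := h ▸ fun e => hx1 (mul_eq_right.1 e)
            simp only [eps]
            rw [if_neg hne3, neg_neg, if_pos]
            rcases hc q q.2 (v0 * v) (mul_mem hv0A hvA) with h3 | h3
            · exact h3
            · exfalso
              rw [e, h, ← mul_assoc x v0, ← mul_assoc] at h3
              have h4 : x * v0 * x = x * v0 := mul_right_cancel h3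
              exact hx1 (mul_eq_left.1 h4)
        have hs : ∑ v : X, eps q v = ∑ v : X, eps q (v0 * v) :=
          (Equiv.sum_comp (Equiv.mulLeft (⟨v0, hv0⟩ : X)) (fun v : X => eps q v)).symm
        simp only [hflip, Finset.sum_neg_distrib] at hs
        omega
    have key : ((Nat.card C * Nat.card X : ℕ) : ℤ) = (Nat.card Q : ℤ) := by
      have h1 : ∑ q : Q, ∑ v : X, eps q v = (Nat.card C * Nat.card X : ℤ) := by
        simp only [hcol, ← Finset.sum_filter, Finset.sum_const, nsmul_eq_mul]
        congr 2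
        rw [Nat.card_eq_fintype_card]
        refine Finset.card_bij (fun q hq => (⟨(q : G), (Finset.mem_filter.1 hq).2⟩ : C))
          (fun _ _ => Finset.mem_univ _) (fun a _ b _ e => Subtype.ext (congrArg Subtype.val e :)) ?_
        intro c _
        exact ⟨⟨c, ((hCmem _).1 c.2).1⟩, by simp, rfl⟩
      rw [Nat.cast_mul, ← h1, Finset.sum_comm, Finset.sum_eq_single (1 : X)]
      · simp [eps, Nat.card_eq_fintype_card]
      · intro v _ hv
        exact hrow v v.2 fun e => hv (Subtype.ext e)
      · simp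
    exact_mod_cast key
  rw [hA] at hKA
  calc 32 * Nat.card K = Nat.card K * 32 := mul_comm _ _
    _ ≤ Nat.card X * Nat.card C := hKA
    _ = Nat.card Q := by rw [mul_comm, hCX]

variable {Ω : Type*} [MulAction G Ω] [Fintype Ω]

/-- The points fixed by an element. -/
def fixP (Ω : Type*) [MulAction G Ω] (g : G) : Set Ω := {α | g • α = α}

/-- No faithful two-transitive action. -/
theorem no_two_trans [FaithfulSMul G Ω] (x n0 : G) (A Q : Subgroup G) (hx1 : x ≠ 1) (hx2 : x * x = 1)
    (hxA : x ∈ A) (hAQ : A ≤ Q) (hA : Nat.card A = 32) (hab : ∀ a ∈ A, ∀ b ∈ A, a * b = b * a)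
    (hQ : IsPGroup 2 Q) (hQx : ∀ q ∈ Q, q * x = x * q)
    (hc : ∀ q ∈ Q, ∀ a ∈ A, q * a * q⁻¹ = a ∨ q * a * q⁻¹ = x * a)
    (hn : ∀ a ∈ A, a ≠ 1 → a ≠ x → ∃ q ∈ Q, q * a * q⁻¹ = x * a)
    (hw : n0 * x * n0⁻¹ ∈ A)
    (hodd : Odd (Subgroup.centralizer ({x} : Set G)).index)
    (hgen : Subgroup.centralizer ({x} : Set G) ⊔ Subgroup.zpowers n0 = ⊤)
    (hcard : Nat.card G = 2 ^ 11 * 8775) (hΩ : 3 ≤ Fintype.card Ω) :
    ¬ IsMultiplyPretransitive G Ω 2 := by
  classical
  intro h2
  haveI := Fintype.ofFinite G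
  rw [is_two_pretransitive_iff] at h2
  set n := Fintype.card Ω with hn_def
  set w := n0 * x * n0⁻¹ with hw_def
  -- degree
  obtain ⟨α, β, hαβ⟩ := Fintype.exists_pair_of_one_lt_card (α := Ω) (by omega)
  have hpairs : n * (n - 1) ∣ Nat.card G := by
    have horb : (orbit G (α, β) : Set (Ω × Ω)) = {p | p.1 ≠ p.2} := by
      ext ⟨γ, δ⟩
      constructor
      · rintro ⟨g, hg⟩
        simp only [Prod.smul_def, Prod.mk.injEq] at hg
        rw [Set.mem_ofPred_eq, ← hg.1, ← hg.2]
        exact fun e => hαβ (smul_left_cancel g e)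
      · intro hne
        obtain ⟨g, hg1, hg2⟩ := h2 hαβ (hne : γ ≠ δ)
        exact ⟨g, by simp [Prod.smul_def, hg1, hg2]⟩
    have h := card_orbit_mul_card_stabilizer_eq_card_group G (α, β)
    have hcardorb : Fintype.card (orbit G (α, β)) = n * (n - 1) := by
      rw [Fintype.card_congr (Equiv.setCongr horb), Fintype.card_subtype,
        show (Finset.univ.filter fun p : Ω × Ω => p ∈ ({p | p.1 ≠ p.2} : Set (Ω × Ω))) =
          (Finset.univ : Finset Ω).offDiag by ext p; simp]
      rw [Finset.offDiag_card, Finset.card_univ, Nat.mul_sub_one]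
    rw [hcardorb, ← Nat.card_eq_fintype_card (α := G)] at h
    exact ⟨_, h.symm⟩
  -- orbits of the large group on the moved points
  have hstabQ : ∀ γ : Ω, x • γ ≠ γ → 32 * Nat.card (stabilizer Q γ) ≤ Nat.card Q := by
    intro γ hγ
    rw [← Subgroup.card_map_of_injective (K := stabilizer Q γ) Q.subtype_injective]
    refine card_avoid A Q x hx1 hx2 hxA hAQ hA hab hc hn _ (Subgroup.map_subtype_le _) ?_
    rintro ⟨q, hq, e⟩
    exact hγ (by rw [← e]; exact hq)
  have horbQ : ∀ γ : Ω, x • γ ≠ γ → 32 ∣ Nat.card (orbit Q γ) := by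
    intro γ hγ
    have h := card_orbit_mul_card_stabilizer_eq_card_group Q γ
    simp only [← Nat.card_eq_fintype_card] at h
    obtain ⟨k, hk⟩ := hQ.card_eq_or_dvd.elim (fun h1 => (⟨0, by
      have h3 := hstabQ γ hγ
      have h4 : 0 < Nat.card (stabilizer Q γ) := Nat.card_pos
      omega⟩ : ∃ k, Nat.card (orbit Q γ) = 2 ^ k)) (fun _ => hQ.card_orbit γ)
    have h1 := hstabQ γ hγ
    rw [← h, hk] at h1
    have h2 : 32 ≤ 2 ^ k := le_of_mul_le_mul_right (by linarith) (Nat.card_pos (α := stabilizer Q γ))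
    rw [hk, show (32 : ℕ) = 2 ^ 5 by norm_num]
    refine Nat.pow_dvd_pow 2 ?_
    exact (Nat.pow_le_pow_iff_right (a := 2) (by norm_num)).1 h2
  let M : SubMulAction Q Ω :=
    { carrier := {γ | x • γ ≠ γ}
      smul_mem' := fun q γ hγ => by
        intro e
        apply hγ
        have e' : ((q : G) * x) • γ = (q : G) • γ := by rw [hQx q q.2, mul_smul]; exact e
        rw [mul_smul] at e'
        exact smul_left_cancel _ e' }
  have h32 : 32 ∣ Nat.card M := by
    rw [Nat.card_congr (selfEquivSigmaOrbits Q M), Nat.card_sigma]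
    refine Finset.dvd_sum fun ω _ => ?_
    have e : Nat.card (orbit Q ω.out) = Nat.card (orbit Q ((ω.out : M) : Ω)) := by
      rw [← Nat.card_image_of_injective (f := ((↑) : M → Ω)) Subtype.coe_injective, SubMulAction.val_image_orbit]
    rw [e]
    exact horbQ _ ω.out.2
  have hne : Nonempty M := by
    by_contra h
    rw [not_nonempty_iff] at h
    refine hx1 (FaithfulSMul.eq_of_smul_eq_smul (α := Ω) fun γ => ?_)
    by_contra hγ
    rw [one_smul] at hγ
    exact h.false ⟨γ, hγ⟩
  have hf : Nat.card M + (fixP Ω x).ncard = n := by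
    rw [hn_def, ← Nat.card_eq_fintype_card, ← Set.ncard_add_ncard_compl (fixP Ω x), add_comm]
    rfl
  have hMpos : 32 ≤ Nat.card M := Nat.le_of_dvd Nat.card_pos h32
  set f := (fixP Ω x).ncard with hf_def
  have hn32 : n = 40 ∨ n = 65 := by
    rw [hcard] at hpairs
    have hb : n < 6000 := by
      by_contra hge
      push Not at hge
      have h1 := Nat.le_of_dvd (by norm_num) hpairs
      have h3 : 6000 * 5999 ≤ n * (n - 1) := Nat.mul_le_mul hge (by omega)
      norm_num at h1
      omega
    have key : ∀ a < 60, ∀ b < 100, (Nat.blt (100 * a + b) 32 ||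
        !Nat.beq (2 ^ 11 * 8775 % ((100 * a + b) * (100 * a + b - 1))) 0 ||
        Nat.beq (100 * a + b) 40 || Nat.beq (100 * a + b) 65) = true := by decide +kernel
    have h1 := key (n / 100) (by omega) (n % 100) (by omega)
    rw [Nat.div_add_mod] at h1
    simp only [Bool.or_eq_true, Nat.blt_eq, Bool.not_eq_true', Nat.beq_eq] at h1
    rcases h1 with ((h1 | h1) | h1) | h1
    · omega
    · exfalso
      rw [Nat.dvd_iff_mod_eq_zero] at hpairs
      rw [hpairs] at h1
      simp at h1
    · exact Or.inl h1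
    · exact Or.inr h1
  -- the neighbour
  have hwfix : fixP Ω w = (fun γ => n0 • γ) '' fixP Ω x := by
    ext γ
    simp only [fixP, Set.mem_ofPred_eq, Set.mem_image, hw_def, mul_smul]
    constructor
    · intro h
      exact ⟨n0⁻¹ • γ, smul_left_cancel n0 (by rw [h, smul_inv_smul]), smul_inv_smul _ _⟩
    · rintro ⟨δ, hδ, rfl⟩
      rw [inv_smul_smul, hδ]
  have hwcard : (fixP Ω w).ncard = f := by
    rw [hwfix, Set.ncard_image_of_injective _ (MulAction.injective n0), hf_def]
  have hsub : f < 16 → fixP Ω w ⊆ fixP Ω x := by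
    intro hf16 γ hγ
    by_contra hx'
    -- the centraliser of the neighbour in Q has index at most two
    set D : Subgroup Q := (Subgroup.centralizer ({w} : Set G)).subgroupOf Q
    have hD : D.index ≤ 2 := by
      by_cases hall : D = ⊤
      · rw [hall, Subgroup.index_top]; norm_num
      obtain ⟨q0, hq0⟩ : ∃ q0, q0 ∉ D := by
        by_contra h
        push Not at h
        exact hall (eq_top_iff.2 fun y _ => h y)
      have hmemD : ∀ q : Q, q ∈ D ↔ (q : G) * w * (q : G)⁻¹ = w := fun q => by
        rw [Subgroup.mem_subgroupOf, Subgroup.mem_centralizer_singleton_iff, mul_inv_eq_iff_eq_mul]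
      have h2i : D.index = 2 := by
        rw [Subgroup.index_eq_two_iff]
        refine ⟨q0, fun q => ?_⟩
        rw [hmemD] at hq0
        have h0 := (hc q0 q0.2 w hw).resolve_left hq0
        rw [hmemD, hmemD, xor_def, Subgroup.coe_mul]
        have e : (q : G) * q0 * w * ((q : G) * q0)⁻¹ = x * ((q : G) * w * (q : G)⁻¹) := by
          rw [show (q : G) * q0 * w * ((q : G) * q0)⁻¹ = (q : G) * ((q0 : G) * w * (q0 : G)⁻¹) * (q : G)⁻¹
            by group, h0, show (q : G) * (x * w) * (q : G)⁻¹ = ((q : G) * x) * w * (q : G)⁻¹ by group,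
            hQx q q.2]
          group
        rw [e]
        have hne' : x * w ≠ w := fun e => hx1 (mul_eq_right.1 e)
        rcases hc q q.2 w hw with h | h
        · exact Or.inr ⟨h, by rw [h]; exact hne'⟩
        · refine Or.inl ⟨?_, h ▸ hne'⟩
          rw [h, ← mul_assoc, hx2, one_mul]
      omega
    have hsubset : orbit D γ ⊆ fixP Ω w := by
      rintro δ ⟨d, rfl⟩
      show w • (((d : Q) : G) • γ) = ((d : Q) : G) • γ
      have hd := Subgroup.mem_centralizer_singleton_iff.1 (Subgroup.mem_subgroupOf.1 d.2)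
      rw [← mul_smul, ← hd, mul_smul, hγ]
    have hle : Nat.card (orbit D γ) ≤ f := by
      rw [Nat.card_coe_set_eq, ← hwcard]
      exact Set.ncard_le_ncard hsubset
    have h1 := card_orbit_mul_card_stabilizer_eq_card_group D γ
    simp only [← Nat.card_eq_fintype_card] at h1
    have h3 : Nat.card (stabilizer D γ) ≤ Nat.card (stabilizer Q γ) :=
      Nat.card_le_card_of_injective (fun d => ⟨(d.1 : Q), d.2⟩)
        fun a b e => Subtype.ext (Subtype.ext (congrArg Subtype.val e :))
    have h4 := hstabQ γ hx'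
    have h5 : Nat.card Q ≤ 2 * Nat.card D := by
      rw [← Subgroup.card_mul_index D, mul_comm 2]
      exact Nat.mul_le_mul_left _ hD
    have hp : 0 < Nat.card (stabilizer Q γ) := Nat.card_pos
    have hle2 : Nat.card (orbit D γ) * Nat.card (stabilizer D γ) ≤ 15 * Nat.card (stabilizer Q γ) :=
      Nat.mul_le_mul (by omega) h3
    omega
  have hfix0 : f ≠ 0 := by
    rcases hn32 with e | e <;> intro h0 <;> · obtain ⟨k, hk⟩ := h32; omega
  rcases lt_or_ge f 16 with hf16 | hf16
  · -- the fixed points are invariant under everything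
    have heq : fixP Ω w = fixP Ω x :=
      Set.eq_of_subset_of_ncard_le (hsub hf16) (by rw [hwcard])
    have hinv : ∀ g : G, ∀ γ, γ ∈ fixP Ω x → g • γ ∈ fixP Ω x := by
      set S : Submonoid G :=
        { carrier := {g | ∀ γ, γ ∈ fixP Ω x → g • γ ∈ fixP Ω x}
          one_mem' := fun γ hγ => by rwa [one_smul]
          mul_mem' := fun {a b} ha hb γ hγ => by rw [mul_smul]; exact ha _ (hb _ hγ) }
      have hS : ∀ g ∈ (⊤ : Subgroup G), g ∈ S := by
        rw [← hgen, Subgroup.sup_eq_closure]
        intro g hg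
        have hg' : g ∈ Submonoid.closure ((Subgroup.centralizer ({x} : Set G) : Set G) ∪
            (Subgroup.zpowers n0 : Set G)) := by
          rw [← Subgroup.closure_toSubmonoid_of_finite]
          exact hg
        refine Submonoid.closure_le.2 ?_ hg'
        rintro y (hy | hy)
        · intro γ hγ
          have hy' := Subgroup.mem_centralizer_singleton_iff.1 hy
          show x • (y • γ) = y • γ
          rw [← mul_smul, ← hy', mul_smul, hγ]
        · obtain ⟨k, rfl⟩ := mem_powers_iff_mem_zpowers.2 hy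
          refine Submonoid.pow_mem S ?_ k
          intro γ hγ
          rw [← heq, hwfix]
          exact ⟨γ, hγ, rfl⟩
      exact fun g => hS g (Subgroup.mem_top g)
    obtain ⟨φ, hφ⟩ : (fixP Ω x).Nonempty := (Set.ncard_pos (Set.toFinite _)).1 (Nat.pos_of_ne_zero hfix0)
    obtain ⟨⟨μ, hμ⟩⟩ := hne
    have hne' : φ ≠ μ := fun e => hμ (e ▸ hφ)
    obtain ⟨g, hg, -⟩ := h2 hne' hne'.symm
    exact hμ (hg ▸ hinv g φ hφ)
  · -- counting pairs
    have hn65 : n = 65 ∧ f = 33 := by obtain ⟨k, hk⟩ := h32; omega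
    set C := MulAction.orbit (ConjAct G) x
    have hCodd : Odd (Nat.card C) := by
      have h := MulAction.index_stabilizer (ConjAct G) x
      rw [← Nat.card_coe_set_eq] at h
      rw [← h, ConjAct.stabilizer_eq_centralizer]
      exact hodd
    set k : Ω × Ω → ℕ := fun p => (C.toFinset.filter fun c => c • p.1 = p.1 ∧ c • p.2 = p.2).card
    have hk : ∀ p ∈ (Finset.univ : Finset Ω).offDiag, k p = k (α, β) := by
      intro p hp
      obtain ⟨g, hg1, hg2⟩ := h2 hαβ (Finset.mem_offDiag.1 hp).2.2
      refine Finset.card_nbij' (fun c => g⁻¹ * c * g) (fun c => g * c * g⁻¹) ?_ ?_ ?_ ?_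
      · intro c hc'
        simp only [Finset.coe_filter, Set.mem_toFinset, Set.mem_ofPred_eq] at hc' ⊢
        refine ⟨?_, ?_, ?_⟩
        · obtain ⟨a, ha⟩ := hc'.1
          exact ⟨ConjAct.toConjAct g⁻¹ * a, by simp [← ha, ConjAct.smul_def, mul_assoc]⟩
        · rw [mul_smul, mul_smul, hg1, hc'.2.1, ← hg1, inv_smul_smul]
        · rw [mul_smul, mul_smul, hg2, hc'.2.2, ← hg2, inv_smul_smul]
      · intro c hc'
        simp only [Finset.coe_filter, Set.mem_toFinset, Set.mem_ofPred_eq] at hc' ⊢
        refine ⟨?_, ?_, ?_⟩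
        · obtain ⟨a, ha⟩ := hc'.1
          exact ⟨ConjAct.toConjAct g * a, by simp [← ha, ConjAct.smul_def, mul_assoc]⟩
        · rw [← hg1, mul_smul, mul_smul, inv_smul_smul, hc'.2.1]
        · rw [← hg2, mul_smul, mul_smul, inv_smul_smul, hc'.2.2]
      · intro c _; group
      · intro c _; group
    have hfc : ∀ c ∈ C.toFinset, (Finset.univ.filter fun γ : Ω => c • γ = γ).card = f := by
      intro c hc'
      obtain ⟨g, rfl⟩ := Set.mem_toFinset.1 hc'
      rw [hf_def, Set.ncard_eq_toFinset_card']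
      refine Finset.card_nbij' (fun γ => (ConjAct.ofConjAct g)⁻¹ • γ) (fun γ => ConjAct.ofConjAct g • γ) ?_ ?_ ?_ ?_
      · intro γ hγ
        simp only [Finset.coe_filter, Finset.mem_univ, true_and, Set.mem_ofPred_eq, ConjAct.smul_def,
          mul_smul] at hγ
        refine Finset.mem_coe.2 (Set.mem_toFinset.2 ?_)
        show x • _ = _
        exact smul_left_cancel (ConjAct.ofConjAct g) (hγ.trans (smul_inv_smul _ _).symm)
      · intro γ hγ
        have hγ0 : γ ∈ fixP Ω x := Set.mem_toFinset.1 (Finset.mem_coe.1 hγ)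
        replace hγ : x • γ = γ := hγ0
        simp only [Finset.coe_filter, Finset.mem_univ, true_and, Set.mem_ofPred_eq, ConjAct.smul_def,
          mul_smul, inv_smul_smul]
        rw [hγ]
      · intro γ _; simp
      · intro γ _; simp
    have hsum : ∑ c ∈ C.toFinset, ((Finset.univ.filter fun γ : Ω => c • γ = γ).offDiag).card =
        ∑ p ∈ (Finset.univ : Finset Ω).offDiag, k p := by
      have e : ∀ c : G, ((Finset.univ.filter fun γ : Ω => c • γ = γ).offDiag) =
          (Finset.univ : Finset Ω).offDiag.filter fun p => c • p.1 = p.1 ∧ c • p.2 = p.2 := fun c => by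
        ext p; simp [Finset.mem_offDiag]; tauto
      simp only [e, k]
      exact Finset.sum_card_bipartiteAbove_eq_sum_card_bipartiteBelow _
    rw [Finset.sum_congr rfl hk, Finset.sum_const, Finset.offDiag_card, Finset.card_univ, smul_eq_mul] at hsum
    simp only [Finset.offDiag_card] at hsum
    rw [Finset.sum_congr rfl (fun c hc' => by rw [hfc c hc']), Finset.sum_const, smul_eq_mul,
      Set.toFinset_card, ← Nat.card_eq_fintype_card, ← hn_def, hn65.1, hn65.2] at hsum
    obtain ⟨j, hj⟩ := hCodd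
    rw [hj] at hsum
    omega

end Cfsg.Agent.ChevGroup.TitsIdx
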