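import Cfsg.Agent.ChevGroup.Tits.Simple
import Cfsg.Agent.ChevGroup.Tits.TitsChecks
import Cfsg.Agent.ChevGroup.Tits.Elem
import Cfsg.Agent.ChevGroup.Tits.TwoTrans

/-!
The root involution of the Tits group, its neighbour and the subgroup of extraspecial type; there is no
faithful two-transitive action.
-/

set_option autoImplicit false
set_option maxRecDepth 4000
set_option maxHeartbeats 300000

namespace Cfsg.Agent.ChevGroup.TitsIdx

open Cfsg.Lie ChevCore Twisted Twisted.TypeF4 Twisted.Tits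

local notation "KK" => relsOfCommGood ChevCore.commGoodF4 (ZMod 2)
local notation "G₁" => genG MT KK (f4Words (ZMod 2) (2 ^ 0))
local notation "DD" => Gens.data (gens fr card_two)

theorem mem_of_mul_eq_one {G : Type*} [Group G] {H : Subgroup G} {a b : G} (e : a * b = 1) (ha : a ∈ H) :
    b ∈ H := inv_eq_of_mul_eq_one_right e ▸ inv_mem ha

/-- Conjugation preserves a closure as soon as it preserves the generators. -/
theorem conj_closure {G : Type*} [Group G] {s : Set G} {c : G}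
    (h : ∀ x ∈ s, c * x * c⁻¹ ∈ Subgroup.closure s) (g : G) (hg : g ∈ Subgroup.closure s) :
    c * g * c⁻¹ ∈ Subgroup.closure s :=
  (Subgroup.closure_le ((Subgroup.closure s).comap (MulAut.conj c).toMonoidHom)).2 h hg

/-- A subgroup and a coset normalised by the representative make a subgroup. -/
theorem mem_or_mul_mem {G : Type*} [Group G] {S : Subgroup G} {c : G}
    (hconj : ∀ g ∈ S, c * g * c⁻¹ ∈ S) (hsq : c * c ∈ S) {s : Set G}
    (hs : ∀ x ∈ s, x ∈ S ∨ x * c ∈ S) (g : G) (hg : g ∈ Subgroup.closure s) : g ∈ S ∨ g * c ∈ S := by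
  have hconj' : ∀ g ∈ S, c⁻¹ * g * c ∈ S := fun g hg' => by
    rw [show c⁻¹ * g * c = (c * c)⁻¹ * (c * g * c⁻¹) * (c * c) by group]
    exact mul_mem (mul_mem (inv_mem hsq) (hconj g hg')) hsq
  let T : Subgroup G :=
    { carrier := {g | g ∈ S ∨ g * c ∈ S}
      one_mem' := Or.inl (one_mem _)
      mul_mem' := by
        rintro a b (ha | ha) (hb | hb)
        · exact Or.inl (mul_mem ha hb)
        · exact Or.inr (by rw [mul_assoc]; exact mul_mem ha hb)
        · refine Or.inr ?_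
          rw [show a * b * c = a * c * (c⁻¹ * b * c) by group]
          exact mul_mem ha (hconj' b hb)
        · refine Or.inl ?_
          rw [show a * b = a * c * (c⁻¹ * (b * c) * c) * (c * c)⁻¹ by group]
          exact mul_mem (mul_mem ha (hconj' _ hb)) (inv_mem hsq)
      inv_mem' := by
        rintro a (ha | ha)
        · exact Or.inl (inv_mem ha)
        · refine Or.inr ?_
          rw [show a⁻¹ * c = c * (a * c)⁻¹ * c⁻¹ * (c * c) by group]
          exact mul_mem (hconj _ (inv_mem ha)) hsq }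
  exact (Subgroup.closure_le T).2 hs hg

/-- The pair of subgroups, for a subgroup of a group. -/
theorem exists_pair_sub {H : Type*} [Group H] (T : Subgroup H) (a : Fin 5 → ↥T)
    (hsq : ∀ i, a i * a i = 1) (hcomm : ∀ i j, Commute (a i) (a j)) (q : Fin 4 → ↥T)
    (hconj : ∀ i j, q i * a j * (q i)⁻¹ = (if j = Fin.succ i then a 0 else 1) * a j)
    (hfaith : ∀ b : Fin 5 → ZMod 2, (List.ofFn fun i => if b i = 0 then 1 else a i).prod = 1 → b = 0) :
    ∃ A Q : Subgroup ↥T, a 0 ∈ A ∧ a 1 ∈ A ∧ A ≤ Q ∧ Nat.card A = 32 ∧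
      (∀ x ∈ A, ∀ y ∈ A, x * y = y * x) ∧ (∀ p ∈ Q, p * a 0 = a 0 * p) ∧
      (∀ p ∈ Q, ∀ x ∈ A, p * x * p⁻¹ = x ∨ p * x * p⁻¹ = a 0 * x) ∧
      (∀ x ∈ A, x ≠ 1 → x ≠ a 0 → ∃ p ∈ Q, p * x * p⁻¹ = a 0 * x) ∧
      Q ≤ Subgroup.closure (Set.range a ∪ Set.range q) :=
  exists_pair a hsq hcomm q hconj hfaith

/-- The criterion, for a subgroup of a group. -/
theorem no_two_trans_sub {H Ω : Type*} [Group H] (T : Subgroup H) [Finite ↥T] [Fintype Ω] [MulAction ↥T Ω]
    [FaithfulSMul ↥T Ω] (x n0 : ↥T) (A Q : Subgroup ↥T) (hx1 : x ≠ 1) (hx2 : x * x = 1)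
    (hxA : x ∈ A) (hAQ : A ≤ Q) (hA : Nat.card A = 32) (hab : ∀ a ∈ A, ∀ b ∈ A, a * b = b * a)
    (hQ : IsPGroup 2 Q) (hQx : ∀ q ∈ Q, q * x = x * q)
    (hc : ∀ q ∈ Q, ∀ a ∈ A, q * a * q⁻¹ = a ∨ q * a * q⁻¹ = x * a)
    (hn : ∀ a ∈ A, a ≠ 1 → a ≠ x → ∃ q ∈ Q, q * a * q⁻¹ = x * a)
    (hw : n0 * x * n0⁻¹ ∈ A)
    (hodd : Odd (Subgroup.centralizer ({x} : Set ↥T)).index)
    (hgen : Subgroup.centralizer ({x} : Set ↥T) ⊔ Subgroup.zpowers n0 = ⊤)
    (hcard : Nat.card ↥T = 2 ^ 11 * 8775) (hΩ : 3 ≤ Fintype.card Ω) :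
    ¬ MulAction.IsMultiplyPretransitive ↥T Ω 2 :=
  no_two_trans x n0 A Q hx1 hx2 hxA hAQ hA hab hQ hQx hc hn hw hodd hgen hcard hΩ

/-- The derived group, inside the Chevalley group. -/
noncomputable def TG : Subgroup GG := (commutator ↥G₁).map (G₁).subtype


theorem mem_comm_iff {g : GG} (hg : g ∈ G₁) :
    (⟨g, hg⟩ : ↥G₁) ∈ commutator ↥G₁ ↔ Mv g false := by
  have hle : commutator ↥G₁ ≤ psiT.ker := Abelianization.commutator_subset_ker psiT
  have hidx : psiT.ker.index = 2 := by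
    rw [Subgroup.index_ker, MonoidHom.range_eq_top.2 psiT_surjective, Subgroup.card_top]
    simp
  have he : commutator ↥G₁ = psiT.ker := by
    refine le_antisymm hle (Subgroup.relIndex_eq_one.1 ?_)
    have h := Subgroup.relIndex_mul_index hle
    rw [index_commutator, hidx] at h
    omega
  have hspec := (exists_Mv hg).choose_spec.1
  rw [he, MonoidHom.mem_ker]
  show Multiplicative.ofAdd (if (exists_Mv hg).choose then (1 : ZMod 2) else 0) = 1 ↔ _
  constructor
  · intro h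
    cases hc : (exists_Mv hg).choose
    · rwa [hc] at hspec
    · rw [hc] at h
      simp at h
  · intro h
    rw [Mv.unique hg hspec h]
    rfl

theorem mem_TG {g : GG} : g ∈ TG ↔ g ∈ G₁ ∧ Mv g false := by
  constructor
  · rintro ⟨⟨g, hg⟩, hc, rfl⟩
    exact ⟨hg, (mem_comm_iff hg).1 hc⟩
  · rintro ⟨hg, hm⟩
    exact ⟨⟨g, hg⟩, (mem_comm_iff hg).2 hm, rfl⟩

theorem TG_eq : TG = (commutator ↥G₁).map (G₁).subtype := rfl

theorem card_TG : Nat.card ↥TG = 2 ^ 11 * 8775 := by
  rw [TG, Subgroup.card_map_of_injective (G₁).subtype_injective, card_comm]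

/-- An even element of the positive part. -/
def Even1 (g : GG) : Prop := g ∈ (DD).U1 ∧ Chi g false

theorem Even1.mem {g : GG} (hg : Even1 g) : g ∈ TG :=
  mem_TG.2 ⟨(Subgroup.mem_inf.1 hg.1).1, Mv.u1 hg.1 hg.2⟩

theorem blks_even {L : List (ℕ × List (Fin MT.tab.n))}
    (h : (L.all blkB && okList ((blksW L).map Fin.val) false) = true) : Even1 (ev (blksW L)) := by
  rw [Bool.and_eq_true] at h
  refine ⟨?_, chi_ev h.2⟩
  obtain ⟨h, -⟩ := h
  induction L with
  | nil => exact one_mem _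
  | cons p L ih =>
    simp only [List.all_cons, Bool.and_eq_true] at h
    rw [show blksW (p :: L) = blkW p ++ blksW L from List.flatMap_cons, ev_append]
    refine mul_mem ?_ (ih h.2)
    have hb := h.1
    simp only [blkB, Bool.and_eq_true, List.any_eq_true, List.all_eq_true, decide_eq_true_eq] at hb
    obtain ⟨⟨k, -, a, ha, hp⟩, hpos⟩ := hb
    refine Subgroup.mem_inf.2 ⟨?_, ev_mem_U _ hpos⟩
    rw [blkW, ← conj_ev_nW]
    exact mul_mem (mul_mem ((DD).nW_mem _) (hp ▸ xw_mem k ha)) (inv_mem ((DD).nW_mem _))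

theorem ev_eq {a b : List (Fin MT.tab.n)} (h : eqB a b = true) : ev a = ev b := ev_congr h

theorem ev_nkV (k : Fin 2) : ev (nkV k) = nj fr k := (nj_ev k).symm

theorem comm_words : ∀ (W : List (Fin 2)) (P : RMap), commB W P = true → ∀ v ∈ wordsT W,
    Commute (ev (blksW (aL 0))) (ev (v.2.map P)) := by
  intro W
  induction W with
  | nil =>
    intro P _ v hv
    obtain rfl : v = (false, []) := List.mem_singleton.1 hv
    simp [ev]
  | cons k W ih =>
    intro P hB v hv
    simp only [commB, Bool.and_eq_true, List.all_eq_true] at hB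
    obtain ⟨a, ha, u, hu, rfl⟩ := wordsT_cons.1 hv
    rw [List.map_append, ev_append, List.map_map]
    refine Commute.mul_right ?_ (ih _ hB.2 u hu)
    show _ = _
    rw [← ev_append, ← ev_append]
    exact ev_eq (hB.1 a ha)

theorem comm_U1 {u : GG} (hu : u ∈ (DD).U1) : Commute (ev (blksW (aL 0))) u := by
  obtain ⟨v, hv, rfl⟩ := words_spec _ (tail_longest 0).1 u (mem_P (tail_longest 0) hu)
  have h := commB_true
  simp only [Bool.and_eq_true] at h
  simpa using comm_words W1 id h.1.1 v hv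

/-- The generators. -/
noncomputable def aT (i : Fin 5) : ↥TG := ⟨ev (blksW (aL i)), (blks_even (aL_ok i)).mem⟩

/-- The dual generators. -/
noncomputable def qT (i : Fin 4) : ↥TG := ⟨ev (blksW (qL i)), (blks_even (qL_ok i)).mem⟩

theorem aT_sq (i : Fin 5) : aT i * aT i = 1 := by
  refine Subtype.ext ?_
  show ev (blksW (aL i)) * ev (blksW (aL i)) = 1
  have h := List.all_eq_true.1 relA i (List.mem_finRange i)
  simp only [Bool.and_eq_true] at h
  rw [← ev_append, ev_eq h.1]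
  rfl

theorem aT_comm (i j : Fin 5) : Commute (aT i) (aT j) := by
  refine Subtype.ext ?_
  show ev (blksW (aL i)) * ev (blksW (aL j)) = ev (blksW (aL j)) * ev (blksW (aL i))
  have h := List.all_eq_true.1 relA i (List.mem_finRange i)
  simp only [Bool.and_eq_true, List.all_eq_true] at h
  rw [← ev_append, ← ev_append, ev_eq (h.2 j (List.mem_finRange j))]

theorem qT_conj (i : Fin 4) (j : Fin 5) :
    qT i * aT j * (qT i)⁻¹ = (if j = Fin.succ i then aT 0 else 1) * aT j := by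
  rw [mul_inv_eq_iff_eq_mul]
  refine Subtype.ext ?_
  have h := List.all_eq_true.1 (List.all_eq_true.1 relQ i (List.mem_finRange i)) j (List.mem_finRange j)
  show ev (blksW (qL i)) * ev (blksW (aL j)) =
    ((if j = Fin.succ i then aT 0 else 1 : ↥TG) : GG) * ev (blksW (aL j)) * ev (blksW (qL i))
  rw [← ev_append, ev_eq h, ev_append, ev_append]
  congr 2
  split_ifs with e <;> rfl

theorem aT_faith (b : Fin 5 → ZMod 2) (hb : (List.ofFn fun i => if b i = 0 then 1 else aT i).prod = 1) :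
    b = 0 := by
  have e : ∀ L : List (Fin 5), (((L.map fun i => if b i = 0 then 1 else aT i).prod : ↥TG) : GG) =
      ev ((L.map fun i => if b i = 0 then [] else blksW (aL i)).flatten) := by
    intro L
    induction L with
    | nil => rfl
    | cons i L ih =>
      rw [List.map_cons, List.prod_cons, List.map_cons, List.flatten_cons, ev_append, ← ih,
        Subgroup.coe_mul]
      congr 1
      split_ifs <;> rfl
  have h1 : ev (combW b) = 1 := by
    rw [combW, List.ofFn_eq_map, ← e, ← List.ofFn_eq_map, hb]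
    rfl
  have hc := combW_ok b
  simp only [Bool.or_eq_true, decide_eq_true_eq, List.any_eq_true, Bool.and_eq_true, Bool.not_eq_true',
    List.mem_range, Nat.blt_eq] at hc
  rcases hc with hc | ⟨c, hc52, hne, hlt⟩
  · exact hc
  · exfalso
    have hm : toVec (appW ((combW b).map Fin.val) (2 ^ c)) = toVec (2 ^ c) := by
      rw [appW_spec _ (fun r hr => by
        obtain ⟨s, -, rfl⟩ := List.mem_map.1 hr
        exact s.isLt), ← mat_ev, h1]
      simp [Model.mat]
    rw [toVec_inj hlt (Nat.pow_lt_pow_right (by norm_num) hc52) hm] at hne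
    simp at hne

theorem coe_aT (i : Fin 5) : ((aT i : ↥TG) : GG) = ev (blksW (aL i)) := rfl

theorem coe_qT (i : Fin 4) : ((qT i : ↥TG) : GG) = ev (blksW (qL i)) := rfl

attribute [local irreducible] aT qT TG

theorem card_U1 : Nat.card ↥(DD).U1 = 4096 := by
  rw [(DD).card_U1 (MT.shapeR KK) ((gens fr card_two).longest long_ok)]
  simp only [W0, List.map_cons, List.map_nil, List.prod_cons, List.prod_nil, card_X0 fr card_two,
    card_X1 fr card_two]
  norm_num

theorem card_TU : Nat.card ↥((DD).U1.subgroupOf TG) = 2 ^ 11 := by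
  have hle : (DD).U1 ≤ G₁ := fun u hu => (Subgroup.mem_inf.1 hu).1
  let φ : ↥(DD).U1 →* Multiplicative (ZMod 2) := psiT.comp (Subgroup.inclusion hle)
  have hker : φ.ker = TG.subgroupOf (DD).U1 := by
    ext ⟨u, hu⟩
    rw [MonoidHom.mem_ker, Subgroup.mem_subgroupOf, mem_TG]
    have hspec := (exists_Mv (hle hu)).choose_spec.1
    show Multiplicative.ofAdd (if (exists_Mv (hle hu)).choose then (1 : ZMod 2) else 0) = 1 ↔ _
    constructor
    · intro h
      refine ⟨hle hu, ?_⟩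
      cases hc : (exists_Mv (hle hu)).choose
      · rwa [hc] at hspec
      · rw [hc] at h
        simp at h
    · rintro ⟨-, h⟩
      rw [Mv.unique (hle hu) hspec h]
      rfl
  have h := Subgroup.card_mul_index φ.ker
  rw [Subgroup.index_ker, hker, card_U1] at h
  have hr : Nat.card φ.range ∣ 2 := by
    have h2 := Subgroup.card_subgroup_dvd_card φ.range
    simpa using h2
  have e : Nat.card ↥(TG.subgroupOf (DD).U1) = Nat.card ↥((DD).U1.subgroupOf TG) :=
    Nat.card_congr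
      { toFun := fun u => ⟨⟨u.1.1, u.2⟩, u.1.2⟩
        invFun := fun u => ⟨⟨u.1.1, u.2⟩, u.1.2⟩
        left_inv := fun _ => rfl
        right_inv := fun _ => rfl }
  rw [e] at h
  have hdvd : Nat.card ↥((DD).U1.subgroupOf TG) ∣ 2 ^ 11 * 8775 :=
    card_TG ▸ Subgroup.card_subgroup_dvd_card _
  rcases (Nat.dvd_prime Nat.prime_two).1 hr with h2 | h2 <;> rw [h2] at h
  · exfalso
    rw [mul_one] at h
    rw [h] at hdvd
    norm_num at hdvd
  · omega

theorem gam_even : Even1 (ev (gamW ++ [36, 26, 34])) ∧ Even1 (ev [28, 30]) ∧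
    ev gamW ∈ (DD).U1 ∧ Chi (ev gamW) true := by
  have h := gamma_ok
  simp only [Bool.and_eq_true, decide_eq_true_eq] at h
  obtain ⟨⟨⟨⟨⟨⟨⟨hinv, -⟩, -⟩, hg⟩, h0⟩, h2⟩, hmap⟩, hpos⟩ := h
  have hgm : ev gamW ∈ (DD).U1 := by
    have h := (DD).X_le_U1 1 (clsW_mem_X fr card_two 1 0)
    simpa [gamW, clsW, form, prodX, two, ev, x_zero', mul_assoc] using h
  have hz : ev [28, 30] ∈ (DD).U1 := by
    have h := (DD).X_le_U1 1 (clsW_mem_X fr card_two 0 1)
    simpa [clsW, form, prodX, two, ev, x_zero', mul_assoc] using h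
  refine ⟨⟨?_, chi_ev h0⟩, ⟨hz, chi_ev h2⟩, hgm, chi_ev hg⟩
  have hr : ev [28, 25, 27] ∈ G₁ := by
    have e := ev_eq hinv
    rw [ev_append, show ev [] = (1 : GG) from rfl] at e
    exact mem_of_mul_eq_one e (Subgroup.mem_inf.1 hgm).1
  rw [ev_append]
  refine mul_mem hgm (Subgroup.mem_inf.2 ⟨?_, ev_mem_U _ fun r hr => hpos r (List.mem_append_left _ (List.mem_append_right _ hr))⟩)
  rw [hmap, ← nj_conj_ev]
  exact mul_mem (mul_mem ((DD).nJ_mem 0) hr) (inv_mem ((DD).nJ_mem 0))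

theorem n_mem (k : Fin 2) : nj fr k ∈ TG := mem_TG.2 ⟨(DD).nJ_mem k, Mv.nk k⟩

/-- The derived group is generated by the even part and the two letters. -/
theorem TG_le : TG ≤ Subgroup.closure ({g | Even1 g} ∪ Set.range (nj fr)) := by
  set S := Subgroup.closure ({g | Even1 g} ∪ Set.range (nj fr)) with hS
  have hE : ∀ {g}, Even1 g → g ∈ S := fun hg => Subgroup.subset_closure (Or.inl hg)
  have hN : ∀ k, nj fr k ∈ S := fun k => Subgroup.subset_closure (Or.inr ⟨k, rfl⟩)
  have hST : S ≤ TG := (Subgroup.closure_le _).2 (by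
    rintro g (hg | ⟨k, rfl⟩)
    · exact hg.mem
    · exact n_mem k)
  obtain ⟨he0, hez, hc, hchi⟩ := gam_even
  set c := ev gamW with hcdef
  have hg := gamma_ok
  simp only [Bool.and_eq_true, decide_eq_true_eq] at hg
  obtain ⟨⟨⟨⟨⟨⟨⟨hinv, hg0⟩, hg1⟩, -⟩, -⟩, -⟩, -⟩, -⟩ := hg
  have hci : c⁻¹ = ev [28, 25, 27] := by
    have e := ev_eq hinv
    rw [ev_append, show ev [] = (1 : GG) from rfl] at e
    exact inv_eq_of_mul_eq_one_right e
  have hcn : ∀ k, c * nj fr k * c⁻¹ ∈ S := by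
    intro k
    rw [hci, ← ev_nkV, ← ev_append, ← ev_append]
    match k with
    | 0 =>
      rw [ev_eq hg0, ev_append, ev_nkV]
      exact mul_mem (hE he0) (hN 0)
    | 1 =>
      rw [ev_eq hg1, ev_append, ev_append, ev_append, ev_append, ev_nkV]
      exact mul_mem (mul_mem (mul_mem (mul_mem (hE hez) (hN 1)) (hE hez)) (hN 1)) (hE hez)
  have hconj : ∀ g ∈ S, c * g * c⁻¹ ∈ S := by
    intro g hg'
    refine conj_closure ?_ g hg'
    rintro x (hx | ⟨k, rfl⟩)
    · have h2 : Even1 (c * x * c⁻¹) :=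
        ⟨mul_mem (mul_mem hc hx.1) (inv_mem hc), (hchi.mul hx.2).mul (chi_inv hc hchi)⟩
      exact hE h2
    · exact hcn k
  have hsq : c * c ∈ S := by
    have h2 : Even1 (c * c) := ⟨mul_mem hc hc, hchi.mul hchi⟩
    exact hE h2
  have hU : ∀ u ∈ (DD).U1, u ∈ S ∨ u * c ∈ S := fun u hu => by
    obtain ⟨p, hp⟩ := chi_total hu
    cases p
    · exact Or.inl (hE (g := u) ⟨hu, hp⟩)
    · exact Or.inr (hE (g := u * c) ⟨mul_mem hu hc, hp.mul hchi⟩)
  have hG : ∀ g ∈ Subgroup.closure (wv MT KK '' f4Words (ZMod 2) (2 ^ 0)), g ∈ S ∨ g * c ∈ S := by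
    refine mem_or_mul_mem hconj hsq ?_
    rintro g ⟨w, hw, rfl⟩
    rcases gen_spec hw with h | ⟨k, y, hy, e⟩
    · exact hU _ h
    · rw [e]
      rcases hU y hy with h | h
      · exact Or.inl (mul_mem (mul_mem (hN k) h) (hN k))
      · refine Or.inr ?_
        rw [show nj fr k * y * nj fr k * c =
          nj fr k * (y * c) * ((c * c)⁻¹ * (c * nj fr k * c⁻¹) * (c * c)) by group]
        exact mul_mem (mul_mem (hN k) h) (mul_mem (mul_mem (inv_mem hsq) (hcn k)) hsq)
  intro g hg'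
  obtain ⟨hgG, hgM⟩ := mem_TG.1 hg'
  rcases hG g hgG with h | h
  · exact h
  · exfalso
    obtain ⟨h1, h2⟩ := mem_TG.1 (hST h)
    exact Bool.false_ne_true (Mv.unique h1 h2 (hgM.mul (Mv.u1 hc hchi)))

/-- No faithful two-transitive action of the derived group. -/
theorem no_two_trans_TG {Ω : Type*} [Fintype Ω] [MulAction ↥TG Ω] [FaithfulSMul ↥TG Ω]
    (hΩ : 3 ≤ Fintype.card Ω) : ¬ MulAction.IsMultiplyPretransitive ↥TG Ω 2 := by
  haveI : Finite ↥TG := Nat.finite_of_card_ne_zero (by rw [card_TG]; norm_num)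
  haveI : Fact (Nat.Prime 2) := ⟨Nat.prime_two⟩
  obtain ⟨A, Q, h0, h1, hAQ, hA, hab, hQx, hc, hn, hQ⟩ :=
    exists_pair_sub TG aT aT_sq aT_comm qT qT_conj aT_faith
  set n0 : ↥TG := ⟨nj fr 0, n_mem 0⟩ with hn0
  have hQU : Q ≤ (DD).U1.subgroupOf TG := hQ.trans ((Subgroup.closure_le _).2 (by
    rintro _ (⟨i, rfl⟩ | ⟨i, rfl⟩)
    · exact Subgroup.mem_subgroupOf.2 (by rw [coe_aT]; exact (blks_even (aL_ok i)).1)
    · exact Subgroup.mem_subgroupOf.2 (by rw [coe_qT]; exact (blks_even (qL_ok i)).1)))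
  have hB := commB_true
  simp only [Bool.and_eq_true] at hB
  have hx1 : aT 0 ≠ 1 := by
    intro e
    have h := congrFun (aT_faith (Pi.single 0 1) (by simp [List.ofFn_succ, Pi.single_apply, e])) 0
    simp at h
  have hw : n0 * aT 0 * n0⁻¹ = aT 1 := by
    refine Subtype.ext ?_
    show nj fr 0 * ((aT 0 : ↥TG) : GG) * (nj fr 0)⁻¹ = ((aT 1 : ↥TG) : GG)
    rw [coe_aT, coe_aT]
    rw [nj_inv, ← ev_nkV, ← ev_append, ← ev_append, ev_eq hB.2]
  have hC : ∀ g : ↥TG, Commute (ev (blksW (aL 0))) (g : GG) →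
      g ∈ Subgroup.centralizer ({aT 0} : Set ↥TG) := fun g hg => by
    rw [Subgroup.mem_centralizer_singleton_iff]
    refine Subtype.ext ?_
    rw [Subgroup.coe_mul, Subgroup.coe_mul, coe_aT]
    exact hg.eq.symm
  have hUC : (DD).U1.subgroupOf TG ≤ Subgroup.centralizer ({aT 0} : Set ↥TG) := fun u hu =>
    hC u (comm_U1 hu)
  have hodd : Odd (Subgroup.centralizer ({aT 0} : Set ↥TG)).index := by
    have hd := Subgroup.index_dvd_of_le hUC
    have he : ((DD).U1.subgroupOf TG).index = 8775 := by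
      have h := Subgroup.card_mul_index ((DD).U1.subgroupOf TG)
      rw [card_TU, card_TG] at h
      omega
    rw [he] at hd
    exact (show Odd 8775 by decide).of_dvd_nat hd
  have hn1 : Commute (ev (blksW (aL 0))) (nj fr 1) := by
    rw [← ev_nkV 1]
    show ev (blksW (aL 0)) * ev (nkV 1) = ev (nkV 1) * ev (blksW (aL 0))
    rw [← ev_append, ← ev_append]
    exact ev_eq hB.1.2
  have hgen : Subgroup.centralizer ({aT 0} : Set ↥TG) ⊔ Subgroup.zpowers n0 = ⊤ := by
    refine eq_top_iff.2 fun g _ => ?_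
    have h : TG ≤ (Subgroup.centralizer ({aT 0} : Set ↥TG) ⊔ Subgroup.zpowers n0).map TG.subtype := by
      refine TG_le.trans ((Subgroup.closure_le _).2 ?_)
      rintro u (hu | ⟨k, rfl⟩)
      · exact ⟨⟨u, hu.mem⟩, Subgroup.mem_sup_left (hC _ (comm_U1 hu.1)), rfl⟩
      · match k with
        | 0 => exact ⟨n0, Subgroup.mem_sup_right (Subgroup.mem_zpowers n0), rfl⟩
        | 1 =>
          exact ⟨⟨nj fr 1, n_mem 1⟩, Subgroup.mem_sup_left (hC _ hn1), rfl⟩
    obtain ⟨y, hy, e⟩ := h g.2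
    obtain rfl : y = g := Subtype.coe_injective e
    exact hy
  exact no_two_trans_sub TG (aT 0) n0 A Q hx1 (aT_sq 0) h0 hAQ hA hab
    ((IsPGroup.of_card card_TU).to_le hQU) hQx hc hn (hw ▸ h1) hodd hgen card_TG hΩ

universe u

/-- Transport along an isomorphism. -/
theorem no_two_trans_equiv {H G' : Type*} [Group H] [Group G'] {A : Subgroup H} {B : Subgroup G'}
    (e : ↥A ≃* ↥B) {P : Subgroup H} (hP : P = (commutator ↥A).map A.subtype)
    (hA : ∀ {Ω : Type u} [Fintype Ω] [MulAction ↥P Ω] [FaithfulSMul ↥P Ω],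
      3 ≤ Fintype.card Ω → ¬ MulAction.IsMultiplyPretransitive ↥P Ω 2)
    {Ω : Type u} [Fintype Ω] [MulAction ↥(commutator ↥B) Ω] [FaithfulSMul ↥(commutator ↥B) Ω]
    (hΩ : 3 ≤ Fintype.card Ω) : ¬ MulAction.IsMultiplyPretransitive ↥(commutator ↥B) Ω 2 := by
  have hmap : (commutator ↥A).map (e : ↥A →* ↥B) = commutator ↥B := by
    rw [commutator_def, Subgroup.map_commutator, Subgroup.map_top_of_surjective _ e.surjective]
    rfl
  let f : ↥P ≃* ↥(commutator ↥B) :=
    (MulEquiv.subgroupCongr hP).trans (((commutator ↥A).equivMapOfInjective _ A.subtype_injective).symm.trans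
      (((commutator ↥A).equivMapOfInjective (e : ↥A →* ↥B) e.injective).trans (MulEquiv.subgroupCongr hmap)))
  letI : MulAction ↥P Ω := MulAction.compHom Ω f.toMonoidHom
  haveI : FaithfulSMul ↥P Ω :=
    ⟨fun {a b} h => f.injective (FaithfulSMul.eq_of_smul_eq_smul (α := Ω) h)⟩
  intro h
  refine hA hΩ ?_
  rw [MulAction.is_two_pretransitive_iff] at h ⊢
  intro a b c d hab hcd
  obtain ⟨g, h1, h2⟩ := h hab hcd
  refine ⟨f.symm g, ?_, ?_⟩
  · show f (f.symm g) • a = c
    rw [f.apply_symm_apply, h1]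
  · show f (f.symm g) • b = d
    rw [f.apply_symm_apply, h2]

end Cfsg.Agent.ChevGroup.TitsIdx
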